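import Groth.Agent.Alg6.AssDepth
import Mathlib.RingTheory.Flat.FaithfullyFlat.Algebra
import Mathlib.LinearAlgebra.TensorProduct.Quotient

/-!
# Descending principal ideals along flat local homomorphisms
-/

universe u

set_option autoImplicit false
set_option linter.style.haveILetI false

open IsLocalRing TensorProduct

namespace Groth.Agent.Div57.Desc

variable {A B : Type u} [CommRing A] [CommRing B] [Algebra A B]

/-- An element regular modulo an ideal stays so after a flat extension. -/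
theorem regular_mod_map [Module.Flat A B] {I : Ideal A} {r : A} (h : ∀ a, r * a ∈ I → a ∈ I) {b : B}
    (hb : algebraMap A B r * b ∈ I.map (algebraMap A B)) : b ∈ I.map (algebraMap A B) := by
  have hinj : Function.Injective ((r • LinearMap.id : (A ⧸ I) →ₗ[A] A ⧸ I).rTensor B) := by
    refine Module.Flat.rTensor_preserves_injective_linearMap _ ((injective_iff_map_eq_zero _).2 fun z hz => ?_)
    obtain ⟨a, rfl⟩ := Ideal.Quotient.mk_surjective z
    exact Ideal.Quotient.eq_zero_iff_mem.2 (h a (Ideal.Quotient.eq_zero_iff_mem.1 hz))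
  let e := TensorProduct.quotTensorEquivQuotSMul B I
  have key : ∀ z, (r • LinearMap.id : (A ⧸ I) →ₗ[A] A ⧸ I).rTensor B z = r • z := fun z => by
    rw [LinearMap.rTensor_smul, LinearMap.rTensor_id]
    rfl
  have hz : r • e.symm (Submodule.Quotient.mk b) = 0 := by
    rw [← map_smul, ← Submodule.Quotient.mk_smul, (Submodule.Quotient.mk_eq_zero _).2 ?_, map_zero]
    rw [Ideal.smul_top_eq_map, Algebra.smul_def]
    exact hb
  have h0 := hinj ((key _).trans (hz.trans (map_zero _).symm))
  have h1 := (Submodule.Quotient.mk_eq_zero _).1 (e.symm.map_eq_zero_iff.1 h0)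
  rw [Ideal.smul_top_eq_map] at h1
  exact h1

/-- An ideal outside every non maximal prime contains a power of the maximal ideal. -/
theorem exists_pow_le [IsLocalRing A] [IsNoetherianRing A] (C : Ideal A)
    (h : ∀ p : Ideal A, p.IsPrime → p ≠ maximalIdeal A → ¬ C ≤ p) : ∃ N, maximalIdeal A ^ N ≤ C := by
  refine Ideal.exists_pow_le_of_le_radical_of_fg ?_ (IsNoetherian.noetherian _)
  rw [Ideal.radical_eq_sInf]
  refine le_sInf fun p hp => ?_
  by_contra hne
  exact h p hp.2 (fun e => hne e.ge) hp.1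

/-- Two elements of the maximal ideal forming a regular sequence in a flat extension. -/
theorem exists_pair [IsLocalRing A] [IsNoetherianRing A] [Module.Flat A B]
    (hd : 2 ≤ LocCoh.depth A A) :
    ∃ r₁ ∈ maximalIdeal A, ∃ r₂ ∈ maximalIdeal A, (∀ b : B, algebraMap A B r₁ * b = 0 → b = 0) ∧
      ∀ b : B, algebraMap A B r₂ * b ∈ Ideal.span {algebraMap A B r₁} → b ∈ Ideal.span {algebraMap A B r₁} := by
  obtain ⟨h1, h2⟩ := Alg6.two_le_depth_iff'.1 hd
  obtain ⟨r₁, hr₁, hreg⟩ := (Alg6.exists_isSMulRegular_mem_iff (M := A) (maximalIdeal A)).mpr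
    (fun p hp hle => h1 (by
      rwa [(maximalIdeal.isMaximal A).eq_of_le (IsAssociatedPrime.isPrime hp).ne_top hle]))
  have h3 := h2 r₁ hr₁ hreg
  obtain ⟨r₂, hr₂, hreg₂⟩ := (Alg6.exists_isSMulRegular_mem_iff (M := QuotSMulTop r₁ A) (maximalIdeal A)).mpr
    (fun p hp hle => h3 (by
      rwa [(maximalIdeal.isMaximal A).eq_of_le (IsAssociatedPrime.isPrime hp).ne_top hle]))
  refine ⟨r₁, hr₁, r₂, hr₂, fun b hb => ?_, fun b hb => ?_⟩
  · have h4 := regular_mod_map (B := B) (I := ⊥) (r := r₁) (b := b) (fun a ha => by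
      rw [Ideal.mem_bot] at ha ⊢
      exact hreg (ha.trans (mul_zero r₁).symm)) (by rw [hb]; exact zero_mem _)
    rwa [Ideal.map_bot, Ideal.mem_bot] at h4
  · have e : (Ideal.span {r₁}).map (algebraMap A B) = Ideal.span {algebraMap A B r₁} := by
      rw [Ideal.map_span, Set.image_singleton]
    rw [← e] at hb ⊢
    refine regular_mod_map (fun a ha => ?_) hb
    have h5 : r₂ • (Submodule.Quotient.mk a : QuotSMulTop r₁ A) = r₂ • 0 := by
      rw [smul_zero, ← Submodule.Quotient.mk_smul, Submodule.Quotient.mk_eq_zero, Submodule.mem_smul_pointwise_iff_exists]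
      obtain ⟨c, hc⟩ := Ideal.mem_span_singleton.1 ha
      exact ⟨c, trivial, hc.symm⟩
    have h6 := (Submodule.Quotient.mk_eq_zero _).1 (hreg₂ h5)
    rw [Submodule.mem_smul_pointwise_iff_exists] at h6
    obtain ⟨c, -, hc⟩ := h6
    exact Ideal.mem_span_singleton.2 ⟨c, hc.symm⟩

/-- No torsion modulo a regular element in depth two. -/
theorem mem_span_of_pow {t : B} (ht : t ∈ nonZeroDivisors B) {M : Ideal A} {r₁ r₂ : A} (hr₁ : r₁ ∈ M)
    (hr₂ : r₂ ∈ M) (h₁ : ∀ b : B, algebraMap A B r₁ * b = 0 → b = 0)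
    (h₂ : ∀ b : B, algebraMap A B r₂ * b ∈ Ideal.span {algebraMap A B r₁} → b ∈ Ideal.span {algebraMap A B r₁})
    (N : ℕ) (x : B) (hx : ∀ c ∈ M ^ N, algebraMap A B c * x ∈ Ideal.span {t}) : x ∈ Ideal.span {t} := by
  induction N generalizing x with
  | zero => simpa using hx 1 (by simp)
  | succ n ih =>
    refine ih x fun c hc => ?_
    obtain ⟨a, ha⟩ := Ideal.mem_span_singleton.1 (hx (c * r₁) (pow_succ M n ▸ Ideal.mul_mem_mul hc hr₁))
    obtain ⟨a', ha'⟩ := Ideal.mem_span_singleton.1 (hx (c * r₂) (pow_succ M n ▸ Ideal.mul_mem_mul hc hr₂))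
    rw [map_mul] at ha ha'
    have h3 : algebraMap A B r₂ * a = algebraMap A B r₁ * a' := by
      refine (mul_cancel_left_mem_nonZeroDivisors ht).1 ?_
      calc t * (algebraMap A B r₂ * a) = algebraMap A B r₂ * (t * a) := by ring
        _ = algebraMap A B r₁ * (t * a') := by rw [← ha, ← ha']; ring
        _ = _ := by ring
    obtain ⟨w, hw⟩ := Ideal.mem_span_singleton.1 (h₂ a (Ideal.mem_span_singleton.2 ⟨a', h3⟩))
    refine Ideal.mem_span_singleton.2 ⟨w, sub_eq_zero.1 (h₁ _ ?_)⟩
    rw [mul_sub, sub_eq_zero]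
    calc algebraMap A B r₁ * (algebraMap A B c * x) = algebraMap A B c * algebraMap A B r₁ * x := by ring
      _ = t * (algebraMap A B r₁ * w) := by rw [ha, hw]
      _ = _ := by ring

/-- A principal ideal which is defined over the base at the non closed primes is defined over the base. -/
theorem exists_descended [IsLocalRing A] [IsNoetherianRing A] [IsLocalRing B]
    [IsLocalHom (algebraMap A B)] [Module.Flat A B] (hd : 2 ≤ LocCoh.depth A A) {t : B}
    (ht : t ∈ nonZeroDivisors B)
    (h : ∀ p : Ideal A, p.IsPrime → p ≠ maximalIdeal A → ∃ c : A,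
      (∃ u ∉ p, algebraMap A B u * t ∈ Ideal.span {algebraMap A B c}) ∧
      ∃ v ∉ p, algebraMap A B (v * c) ∈ Ideal.span {t}) :
    ∃ a : A, Ideal.span {t} = Ideal.span {algebraMap A B a} := by
  obtain ⟨r₁, hr₁, r₂, hr₂, h₁, h₂⟩ := exists_pair (B := B) hd
  let I : Ideal A := (Ideal.span {t}).comap (algebraMap A B)
  have hIB : I.map (algebraMap A B) ≤ Ideal.span {t} := Ideal.map_comap_le
  have hno : maximalIdeal A ∉ associatedPrimes A (A ⧸ I) := by
    intro hm
    obtain ⟨-, z, hz⟩ := isAssociatedPrime_iff.1 hm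
    obtain ⟨a, rfl⟩ := Ideal.Quotient.mk_surjective z
    have ha : a ∉ I := fun ha => (maximalIdeal.isMaximal A).ne_top (by
      rw [hz, Ideal.Quotient.eq_zero_iff_mem.2 ha, Submodule.colon_singleton_zero])
    refine ha (mem_span_of_pow ht hr₁ hr₂ h₁ h₂ 1 _ fun c hc => ?_)
    rw [pow_one, hz, Submodule.mem_colon_singleton, Submodule.mem_bot] at hc
    have h3 : c * a ∈ I := Ideal.Quotient.eq_zero_iff_mem.1 hc
    rw [← map_mul]
    exact h3
  obtain ⟨r, hr, hreg⟩ := (Alg6.exists_isSMulRegular_mem_iff (M := A ⧸ I) (maximalIdeal A)).mpr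
    (fun p hp hle => hno (by
      rwa [(maximalIdeal.isMaximal A).eq_of_le (IsAssociatedPrime.isPrime hp).ne_top hle]))
  have hr' : ∀ a, r * a ∈ I → a ∈ I := fun a ha => Ideal.Quotient.eq_zero_iff_mem.1 (hreg (by
    show r • Ideal.Quotient.mk I a = r • 0
    rw [smul_zero]
    exact Ideal.Quotient.eq_zero_iff_mem.2 ha))
  obtain ⟨N, hN⟩ := exists_pow_le (Ideal.comap (algebraMap A B)
      (Submodule.comap (LinearMap.mulRight B t) (I.map (algebraMap A B)))) fun p hp hne => by
    obtain ⟨c, ⟨u, hu, hut⟩, v, hv, hvc⟩ := h p hp hne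
    refine fun hle => hp.mem_or_mem (hle (x := u * v) ?_) |>.elim hu hv
    show algebraMap A B (u * v) * t ∈ I.map (algebraMap A B)
    obtain ⟨d, hd⟩ := Ideal.mem_span_singleton.1 hut
    rw [map_mul, mul_comm (algebraMap A B u), mul_assoc, hd, ← mul_assoc, ← map_mul]
    exact Ideal.mul_mem_right _ _ (Ideal.mem_map_of_mem _ (show v * c ∈ I from hvc))
  have htI : t ∈ I.map (algebraMap A B) := by
    have h4 : algebraMap A B (r ^ N) * t ∈ I.map (algebraMap A B) := hN (Ideal.pow_mem_pow hr N)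
    clear hN
    induction N with
    | zero => simpa using h4
    | succ n ih =>
      refine ih (regular_mod_map hr' ?_)
      rwa [← mul_assoc, ← map_mul, ← pow_succ']
  by_contra hne
  push Not at hne
  have hsub : I.map (algebraMap A B) ≤ Ideal.span {t} * maximalIdeal B := by
    refine Ideal.map_le_iff_le_comap.2 fun a ha => ?_
    obtain ⟨b, hb⟩ := Ideal.mem_span_singleton.1 (show algebraMap A B a ∈ Ideal.span {t} from ha)
    rw [Ideal.mem_comap]
    rw [hb]
    refine Ideal.mul_mem_mul (Ideal.mem_span_singleton_self t) ((mem_maximalIdeal _).2 fun hu => ?_)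
    exact hne a (by rw [hb, Ideal.span_singleton_mul_right_unit hu])
  obtain ⟨b, hb, hbt⟩ := Ideal.mem_span_singleton_mul.1 (hsub htI)
  have : b = 1 := (mul_cancel_left_mem_nonZeroDivisors ht).1 (hbt.trans (mul_one t).symm)
  exact (mem_maximalIdeal _).1 hb (this ▸ isUnit_one)

/-- Generators of a descended principal ideal generate the same ideal below. -/
theorem span_eq_of_map [Module.FaithfullyFlat A B] {a a' : A}
    (h : Ideal.span {algebraMap A B a} = Ideal.span {algebraMap A B a'}) :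
    Ideal.span {a} = Ideal.span ({a'} : Set A) := by
  rw [← Ideal.comap_map_eq_self_of_faithfullyFlat (B := B) (Ideal.span {a}),
    ← Ideal.comap_map_eq_self_of_faithfullyFlat (B := B) (Ideal.span {a'}), Ideal.map_span, Ideal.map_span,
    Set.image_singleton, Set.image_singleton, h]

/-- A divisor of a power of an element generating a prime is a power of it up to units. -/
theorem exists_pow_of_prime {π : B} (hπ : π ∈ nonZeroDivisors B) (hp : (Ideal.span {π}).IsPrime) :
    ∀ (N : ℕ) {t : B}, π ^ N ∈ Ideal.span {t} → ∃ k, Ideal.span {t} = Ideal.span {π ^ k} := by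
  intro N
  induction N with
  | zero =>
    intro t ht
    exact ⟨0, le_antisymm (by simp) ((Ideal.span_singleton_le_iff_mem _).2 ht)⟩
  | succ n ih =>
    intro t ht
    obtain ⟨s, hs⟩ := Ideal.mem_span_singleton.1 ht
    rcases hp.mem_or_mem (show t * s ∈ Ideal.span {π} by
      rw [← hs, pow_succ']; exact Ideal.mem_span_singleton.2 (dvd_mul_right _ _)) with h1 | h1
    · obtain ⟨t', rfl⟩ := Ideal.mem_span_singleton.1 h1
      obtain ⟨k, hk⟩ := ih (t := t') (Ideal.mem_span_singleton.2 ⟨s,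
        (mul_cancel_left_mem_nonZeroDivisors hπ).1 (by rw [← pow_succ', hs, mul_assoc])⟩)
      exact ⟨k + 1, by rw [pow_succ', ← Ideal.span_singleton_mul_span_singleton, hk,
        Ideal.span_singleton_mul_span_singleton]⟩
    · obtain ⟨s', rfl⟩ := Ideal.mem_span_singleton.1 h1
      exact ih (Ideal.mem_span_singleton.2 ⟨s',
        (mul_cancel_left_mem_nonZeroDivisors hπ).1 (by rw [← pow_succ', hs, mul_left_comm])⟩)

/-- Regular elements modulo which `π` is torsion have the associated primes of `π`. -/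
theorem ass_transfer {π t : B} (hπ : π ∈ nonZeroDivisors B) (ht : t ∈ nonZeroDivisors B) {q : Ideal B}
    (hπq : π ∈ q) {x : B} (hx : ∀ c, c ∈ q ↔ c * x ∈ Ideal.span {t}) :
    ∃ y, ∀ c, c ∈ q ↔ c * y ∈ Ideal.span {π} := by
  obtain ⟨y, hy⟩ := Ideal.mem_span_singleton.1 ((hx π).1 hπq)
  refine ⟨y, fun c => ?_⟩
  rw [hx c, Ideal.mem_span_singleton, Ideal.mem_span_singleton]
  constructor
  · rintro ⟨z, hz⟩
    refine ⟨z, (mul_cancel_left_mem_nonZeroDivisors ht).1 ?_⟩
    calc t * (c * y) = c * (π * x) := by rw [hy]; ring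
      _ = _ := by rw [mul_left_comm, hz]; ring
  · rintro ⟨z, hz⟩
    refine ⟨z, (mul_cancel_left_mem_nonZeroDivisors hπ).1 ?_⟩
    calc π * (c * x) = t * (c * y) := by rw [mul_left_comm, hy]; ring
      _ = _ := by rw [hz]; ring

/-- Membership in a regular principal ideal is tested at the associated primes of `π`. -/
theorem mem_span_of_ass [IsNoetherianRing B] {π t : B} (hπ : π ∈ nonZeroDivisors B)
    (ht : t ∈ nonZeroDivisors B) {N : ℕ} (hN : π ^ N ∈ Ideal.span {t}) {x : B}
    (h : ∀ q ∈ associatedPrimes B (B ⧸ Ideal.span {π}), ∃ c ∉ q, c * x ∈ Ideal.span {t}) :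
    x ∈ Ideal.span {t} := by
  by_contra hx
  obtain ⟨q, hq, hle⟩ := exists_le_isAssociatedPrime_of_isNoetherianRing B
    (Ideal.Quotient.mk (Ideal.span {t}) x) (fun h0 => hx (Ideal.Quotient.eq_zero_iff_mem.1 h0))
  obtain ⟨hqp, z, hz⟩ := isAssociatedPrime_iff.1 hq
  obtain ⟨x', rfl⟩ := Ideal.Quotient.mk_surjective z
  have hx' : ∀ c, c ∈ q ↔ c * x' ∈ Ideal.span {t} := fun c => by
    rw [hz, Submodule.mem_colon_singleton, Submodule.mem_bot]
    exact Ideal.Quotient.eq_zero_iff_mem
  have hπq : π ∈ q := hqp.mem_of_pow_mem N ((hx' _).2 (Ideal.mul_mem_right _ _ hN))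
  obtain ⟨y, hy⟩ := ass_transfer hπ ht hπq hx'
  obtain ⟨c, hc, hcx⟩ := h q (isAssociatedPrime_iff.2 ⟨hqp, Ideal.Quotient.mk _ y, Ideal.ext fun c => by
    rw [hy c, Submodule.mem_colon_singleton, Submodule.mem_bot]
    exact Ideal.Quotient.eq_zero_iff_mem.symm⟩)
  refine hc (hle ?_)
  rw [Submodule.mem_colon_singleton, Submodule.mem_bot]
  exact Ideal.Quotient.eq_zero_iff_mem.2 hcx

end Groth.Agent.Div57.Desc
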