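import Groth.Agent.Div57.Desc.Local
import Mathlib.RingTheory.Ideal.AssociatedPrime.Localization
import Groth.Agent.H23.RatExtend

/-!
# Fibres over valuation rings, and the converse conditions
-/

universe u

set_option autoImplicit false
set_option backward.isDefEq.respectTransparency false
set_option backward.isDefEq.respectTransparency.types false
set_option linter.style.haveILetI false
set_option linter.unusedSectionVars false

open CategoryTheory CategoryTheory.Limits AlgebraicGeometry TopologicalSpace IsLocalRing Opposite Groth.Agent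

namespace Groth.Agent.Div57.Desc

variable {X Y : Scheme.{u}} (f : X ⟶ Y) [Flat f] (J : X.IdealSheafData)

/-- The condition on the spectrum of the local ring gives a generator. -/
theorem goodAt_of_spec (y : Y) (I₁ : (Spec (Y.presheaf.stalk y)).IdealSheafData) (hI₁ : BlowUp.IsEffCartierIdeal I₁)
    (he : I₁.comap (pullback.snd f (Y.fromSpecStalk y)) = J.comap (pullback.fst f (Y.fromSpecStalk y))) :
    GoodAt f J y := by
  let A := Y.presheaf.stalk y
  obtain ⟨U, hU, g, hg, hUg⟩ := hI₁ (closedPoint A)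
  have htop : U = ⟨⊤, isAffineOpen_top _⟩ := Subtype.ext (top_le_iff.1 fun p _ =>
    (IsLocalRing.specializes_closedPoint p).mem_open U.1.2 hU)
  subst htop
  let a : A := (Scheme.ΓSpecIso A).hom g
  have ha : a ∈ nonZeroDivisors A := by
    refine mem_nonZeroDivisors_iff_right.2 fun r hr => ?_
    have h1 := congrArg (Scheme.ΓSpecIso A).inv hr
    rw [map_mul, map_zero, ← CommRingCat.comp_apply, Iso.hom_inv_id] at h1
    have h2 := congrArg (Scheme.ΓSpecIso A).hom (mem_nonZeroDivisors_iff_right.1 hg _ h1)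
    rwa [map_zero, ← CommRingCat.comp_apply, Iso.inv_hom_id] at h2
  obtain ⟨V, hy, a₀, ha₀⟩ := TopCat.Presheaf.exists_germ_eq Y.presheaf a
  refine ⟨V, hy, a₀, by rw [ha₀]; exact ha, fun x hx => ?_⟩
  subst hx
  let j : Spec (X.presheaf.stalk x) ⟶ pullback f (Y.fromSpecStalk (f x)) :=
    pullback.lift (X.fromSpecStalk x) (Spec.map (f.stalkMap x)) (by rw [Scheme.SpecMap_stalkMap_fromSpecStalk])
  have h3 := congrArg (fun D => D.comap j) he
  simp only [← Scheme.IdealSheafData.comap_comp, j, pullback.lift_fst, pullback.lift_snd] at h3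
  have h4 := congrArg (fun D : (Spec (X.presheaf.stalk x)).IdealSheafData => D.ideal ⟨⊤, isAffineOpen_top _⟩) h3
  simp only at h4
  rw [comap_fromSpecStalk_top, ModPairLib.ideal_comap I₁ (Spec.map (f.stalkMap x)) ⟨⊤, isAffineOpen_top _⟩
    ⟨⊤, isAffineOpen_top _⟩ le_top, hUg, Ideal.map_span, Set.image_singleton] at h4
  have h5 := congrArg (Ideal.map (Scheme.ΓSpecIso (X.presheaf.stalk x)).hom.hom) h4
  rw [Ideal.map_map, ← CommRingCat.hom_comp, Iso.inv_hom_id, CommRingCat.hom_id, Ideal.map_id, Ideal.map_span,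
    Set.image_singleton] at h5
  rw [← h5, span_app f x hy a₀, ha₀, Ideal.map_span, Set.image_singleton]
  refine congrArg (fun r => Ideal.span {r}) ?_
  have h6 := Scheme.ΓSpecIso_naturality (f.stalkMap x)
  refine Eq.trans ?_ (congr($(h6) g))
  simp only [Scheme.Hom.appLE, Scheme.Hom.appTop, CommRingCat.hom_comp, RingHom.comp_apply]
  refine congrArg _ ?_
  simp

/-- A descended divisor restricts to the spectra of the local rings. -/
theorem exists_spec_of_descent {I : Y.IdealSheafData} (hI : BlowUp.IsEffCartierIdeal I) (he : I.comap f = J) (y : Y) :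
    ∃ I₁ : (Spec (Y.presheaf.stalk y)).IdealSheafData, BlowUp.IsEffCartierIdeal I₁ ∧
      I₁.comap (pullback.snd f (Y.fromSpecStalk y)) = J.comap (pullback.fst f (Y.fromSpecStalk y)) := by
  haveI := H23.RatExtend.flat_fromSpecStalk Y y
  refine ⟨I.comap (Y.fromSpecStalk y), MeroX.isEffCartier_comap _ I hI, ?_⟩
  rw [← he, ← Scheme.IdealSheafData.comap_comp, ← Scheme.IdealSheafData.comap_comp, pullback.condition]

variable (hY : Pi1.IsNormalScheme Y)

include hY in
/-- A descended divisor avoids the maximal fibres. -/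
theorem top_of_descent {I : Y.IdealSheafData} (hI : BlowUp.IsEffCartierIdeal I) (he : I.comap f = J)
    (η : Y) (hη : ∀ z : Y, z ⤳ η → z = η) (x : X) (hx : f x = η) : stI J x = ⊤ := by
  subst hx
  obtain ⟨g, hg, hIg⟩ := stI_of_effCartier I hI (f x)
  haveI := (hY (f x)).1
  have hu : IsUnit g := by
    by_contra hu
    obtain ⟨q, hq, -⟩ := Ideal.exists_minimalPrimes_le
      (show (⊥ : Ideal (Y.presheaf.stalk (f x))) ≤ maximalIdeal _ from bot_le)
    haveI := hq.1.1
    obtain ⟨z, hz, hzq⟩ := H23.StalkPrimes.exists_point q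
    obtain rfl := hη z hz
    have hbot : q = ⊥ := le_bot_iff.1 (hq.2 ⟨Ideal.isPrime_bot, le_rfl⟩ bot_le)
    have h1 : g ∈ (CDiv6.primeOf hz).asIdeal := (CDiv6.mem_primeOf hz g).2 (by
      rw [TopCat.Presheaf.stalkSpecializes_refl]; exact hu)
    rw [hzq, hbot, Ideal.mem_bot] at h1
    exact nonZeroDivisors.ne_zero hg h1
  rw [← he, stI_comap, hIg, Ideal.span_singleton_eq_top.2 hu, Ideal.map_top]

variable {y : Y} {V : Y.Opens} (hy : y ∈ V) (p : Γ(Y, V))

/-- Associated points of the fibre from associated primes of the uniformiser. -/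
theorem isAssociatedPrime_fibre [IsLocallyNoetherian X]
    (hp : maximalIdeal (Y.presheaf.stalk y) = Ideal.span {Y.presheaf.germ V y hy p})
    (x : X) (hx : f x = y) {z : X} (hz : z ⤳ x) (hzy : f z = y) {e : X.presheaf.stalk x}
    (he : ∀ c, c ∈ (CDiv6.primeOf hz).asIdeal ↔
      c * e ∈ Ideal.span {X.presheaf.germ (f ⁻¹ᵁ V) x (show f x ∈ V by rw [hx]; exact hy) (f.app V p)})
    (w : f.fiber y) (hw : f.fiberι y w = z) :
    IsAssociatedPrime (maximalIdeal ((f.fiber y).presheaf.stalk w)) ((f.fiber y).presheaf.stalk w) := by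
  subst hw
  letI := (X.presheaf.stalkSpecializes hz).hom.toAlgebra
  haveI := H23.StalkPrimes.isLocalization_primeOf hz
  haveI : IsNoetherianRing ((f.fiber y).presheaf.stalk w) :=
    isNoetherianRing_of_surjective _ _ ((f.fiberι y).stalkMap w).hom ((f.fiberι y).stalkMap_surjective w)
  have hker : RingHom.ker ((f.fiberι y).stalkMap w).hom =
      (Ideal.span {X.presheaf.germ (f ⁻¹ᵁ V) x (show f x ∈ V by rw [hx]; exact hy) (f.app V p)}).map
        (algebraMap (X.presheaf.stalk x) (X.presheaf.stalk (f.fiberι y w))) := by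
    rw [FlatDvr.ker_stalkMap_fiberι f w, ← span_germ_eq_maximal f _ hzy hy p hp, Ideal.map_span, Set.image_singleton]
    exact congrArg (fun r => Ideal.span {r})
      (TopCat.Presheaf.germ_stalkSpecializes_apply X.presheaf (show f x ∈ V by rw [hx]; exact hy) hz _).symm
  refine isAssociatedPrime_iff.2 ⟨inferInstance,
    ((f.fiberι y).stalkMap w).hom (algebraMap (X.presheaf.stalk x) _ e), Ideal.ext fun r => ?_⟩
  obtain ⟨r, rfl⟩ := (f.fiberι y).stalkMap_surjective w r
  obtain ⟨c, d, rfl⟩ := IsLocalization.exists_mk'_eq (CDiv6.primeOf hz).asIdeal.primeCompl r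
  rw [Submodule.mem_colon_singleton, Submodule.mem_bot, smul_eq_mul, IsLocalRing.mem_maximalIdeal]
  show ¬ IsUnit (((f.fiberι y).stalkMap w).hom _) ↔ ((f.fiberι y).stalkMap w).hom _ * _ = 0
  rw [← map_mul, ← RingHom.mem_ker, hker]
  constructor
  · intro hu
    have hc : c ∈ (CDiv6.primeOf hz).asIdeal := by
      by_contra hc
      exact hu ((IsLocalization.AtPrime.isUnit_mk'_iff (X.presheaf.stalk (f.fiberι y w))
        (CDiv6.primeOf hz).asIdeal c d).2 hc |>.map _)
    rw [← Ideal.unit_mul_mem_iff_mem _ (IsLocalization.map_units (X.presheaf.stalk (f.fiberι y w)) d), ← mul_assoc,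
      IsLocalization.mk'_spec', ← map_mul]
    exact Ideal.mem_map_of_mem _ ((he c).1 hc)
  · intro hmem hu
    have hu' := isUnit_of_map_unit _ _ hu
    rw [Ideal.unit_mul_mem_iff_mem _ hu'] at hmem
    obtain ⟨k, hk, hke⟩ := (IsLocalization.algebraMap_mem_map_algebraMap_iff
      (CDiv6.primeOf hz).asIdeal.primeCompl (X.presheaf.stalk (f.fiberι y w)) _ e).1 hmem
    exact hk ((he k).2 hke)

/-- Divisors with uniform order on fibres without embedded points come from the base. -/
theorem goodAt_of_uniform [IsLocallyNoetherian X] [IsLocallyNoetherian Y]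
    (hJ : BlowUp.IsEffCartierIdeal J) (hp0 : Y.presheaf.germ V y hy p ∈ nonZeroDivisors (Y.presheaf.stalk y))
    (hp : maximalIdeal (Y.presheaf.stalk y) = Ideal.span {Y.presheaf.germ V y hy p})
    (hgen : ∀ z : Y, z ⤳ y → z ≠ y → ∀ w : Y, w ⤳ z → w = z)
    (htriv : ∀ η : Y, (∀ z : Y, z ⤳ η → z = η) → ∀ x, f x = η → stI J x = ⊤)
    (hass : ∀ w w' : f.fiber y,
      IsAssociatedPrime (maximalIdeal ((f.fiber y).presheaf.stalk w)) ((f.fiber y).presheaf.stalk w) →
      IsAssociatedPrime (maximalIdeal ((f.fiber y).presheaf.stalk w')) ((f.fiber y).presheaf.stalk w') →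
      w' ⤳ w → w' = w) (n : ℕ)
    (hn : ∀ (x : X) (hx : f x = y), (∀ z : X, f z = y → z ⤳ x → z = x) →
      stI J x = Ideal.span {X.presheaf.germ (f ⁻¹ᵁ V) x (show f x ∈ V by rw [hx]; exact hy) (f.app V p) ^ n}) :
    GoodAt f J y := by
  refine ⟨V, hy, p ^ n, by rw [map_pow]; exact pow_mem hp0 n, fun x hx => ?_⟩
  rw [map_pow, map_pow]
  let P := X.presheaf.germ (f ⁻¹ᵁ V) x (show f x ∈ V by rw [hx]; exact hy) (f.app V p)
  obtain ⟨t, ht, hJt⟩ := stI_of_effCartier J hJ x
  obtain ⟨N, hN⟩ := exists_pow_mem f J hy p hp hgen htriv x hx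
  have hP : P ∈ nonZeroDivisors (X.presheaf.stalk x) := germ_app_regular f x hx hy p hp0
  rw [hJt] at hN ⊢
  have hloc : ∀ q ∈ associatedPrimes (X.presheaf.stalk x) (X.presheaf.stalk x ⧸ Ideal.span {P}),
      (∃ c ∉ q, c * P ^ n ∈ Ideal.span {t}) ∧ ∃ c ∉ q, c * t ∈ Ideal.span {P ^ n} := by
    intro q hq
    obtain ⟨hqp, e, hqe⟩ := isAssociatedPrime_iff.1 hq
    obtain ⟨e, rfl⟩ := Ideal.Quotient.mk_surjective e
    have he : ∀ c, c ∈ q ↔ c * e ∈ Ideal.span {P} := fun c => by
      rw [hqe, Submodule.mem_colon_singleton, Submodule.mem_bot]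
      exact Ideal.Quotient.eq_zero_iff_mem
    obtain ⟨z, hz, rfl⟩ := H23.StalkPrimes.exists_point q
    have hzy : f z = y := by
      have hPq : P ∈ (CDiv6.primeOf hz).asIdeal := (he P).2 (Ideal.mem_span_singleton.2 (dvd_mul_right P e))
      rw [CDiv6.mem_primeOf, TopCat.Presheaf.germ_stalkSpecializes_apply] at hPq
      by_contra hne
      refine hPq ?_
      have hzy : f z ⤳ y := hx ▸ hz.map f.continuous
      rw [← Scheme.Hom.germ_stalkMap_apply]
      refine IsUnit.map _ ?_
      by_contra hu
      have h1 : Y.presheaf.germ V y hy p ∈ (CDiv6.primeOf hzy).asIdeal := by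
        rw [CDiv6.mem_primeOf, TopCat.Presheaf.germ_stalkSpecializes_apply]; exact hu
      refine hne (H23.StalkPrimes.primeOf_inj hzy (specializes_rfl (x := y)) ?_)
      have e1 : (CDiv6.primeOf (specializes_rfl (x := y))).asIdeal = maximalIdeal (Y.presheaf.stalk y) :=
        Ideal.ext fun r => by
          rw [CDiv6.mem_primeOf, TopCat.Presheaf.stalkSpecializes_refl]
          exact Iff.rfl
      rw [e1]
      refine le_antisymm (le_maximalIdeal (CDiv6.primeOf hzy).2.ne_top) ?_
      rw [hp, Ideal.span_singleton_le_iff_mem]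
      exact h1
    obtain ⟨w, hw⟩ := exists_fibre_point f z hzy
    have hwass := isAssociatedPrime_fibre f hy p hp x hx hz hzy he w hw
    have hmin : ∀ z' : X, f z' = y → z' ⤳ z → z' = z := by
      have hwmin : ∀ w'' : f.fiber y, w'' ⤳ w → w'' = w := by
        obtain ⟨Z, hZ, hwZ⟩ : ∃ Z ∈ irreducibleComponents (f.fiber y), w ∈ Z :=
          ⟨_, irreducibleComponent_mem_irreducibleComponents w, mem_irreducibleComponent⟩
        have hg := hZ.1.isGenericPoint_genericPoint (isClosed_of_mem_irreducibleComponents Z hZ)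
        have hgmax : ∀ u : f.fiber y, u ⤳ hZ.1.genericPoint → u = hZ.1.genericPoint := fun u hu => by
          have h1 : closure ({u} : Set (f.fiber y)) ⊆ Z := hZ.2 isIrreducible_singleton.closure
            (hg.def ▸ specializes_iff_closure_subset.1 hu)
          exact (hu.antisymm (hg.specializes (h1 (subset_closure rfl)))).eq
        haveI : IsNoetherianRing ((f.fiber y).presheaf.stalk hZ.1.genericPoint) :=
          isNoetherianRing_of_surjective _ _ ((f.fiberι y).stalkMap hZ.1.genericPoint).hom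
            ((f.fiberι y).stalkMap_surjective _)
        have hgass : IsAssociatedPrime (maximalIdeal ((f.fiber y).presheaf.stalk hZ.1.genericPoint))
            ((f.fiber y).presheaf.stalk hZ.1.genericPoint) := by
          refine Module.associatedPrimes.minimalPrimes_annihilator_subset_associatedPrimes _ _ ?_
          rw [Module.annihilator_eq_bot.2 inferInstance]
          obtain ⟨Q, hQ, hQle⟩ := Ideal.exists_minimalPrimes_le
            (show (⊥ : Ideal ((f.fiber y).presheaf.stalk hZ.1.genericPoint)) ≤ maximalIdeal _ from bot_le)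
          haveI := hQ.1.1
          obtain ⟨u, hu, hQu⟩ := H23.StalkPrimes.exists_point Q
          obtain rfl := hgmax u hu
          convert hQ using 1
          rw [← hQu]
          exact Ideal.ext fun r => by
            rw [CDiv6.mem_primeOf, TopCat.Presheaf.stalkSpecializes_refl]
            exact Iff.rfl
        have e2 := hass w _ hwass hgass (hg.specializes hwZ)
        intro w'' hw''
        rw [← e2] at hw'' ⊢
        exact hgmax w'' hw''
      intro z' hz'y hz'
      obtain ⟨w', hw'⟩ := exists_fibre_point f z' hz'y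
      rw [← hw', ← hw] at hz' ⊢
      exact congrArg _ (hwmin w' ((f.fiberι y).isEmbedding.isInducing.specializes_iff.1 hz'))
    have hJz := hn z hzy hmin
    rw [← stI_map J hz, hJt] at hJz
    letI := (X.presheaf.stalkSpecializes hz).hom.toAlgebra
    haveI := H23.StalkPrimes.isLocalization_primeOf hz
    have hPz : X.presheaf.germ (f ⁻¹ᵁ V) z (show f z ∈ V by rw [hzy]; exact hy) (f.app V p) =
        X.presheaf.stalkSpecializes hz P :=
      (TopCat.Presheaf.germ_stalkSpecializes_apply X.presheaf _ hz _).symm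
    rw [hPz, ← map_pow, ← Set.image_singleton, ← Ideal.map_span] at hJz
    constructor
    · exact (IsLocalization.algebraMap_mem_map_algebraMap_iff (CDiv6.primeOf hz).asIdeal.primeCompl
        (X.presheaf.stalk z) _ (P ^ n)).1 (hJz.symm ▸ Ideal.mem_map_of_mem _ (Ideal.mem_span_singleton_self _))
    · exact (IsLocalization.algebraMap_mem_map_algebraMap_iff (CDiv6.primeOf hz).asIdeal.primeCompl
        (X.presheaf.stalk z) _ t).1 (hJz ▸ Ideal.mem_map_of_mem _ (Ideal.mem_span_singleton_self _))
  have h1 : P ^ n ∈ Ideal.span {t} := mem_span_of_ass hP ht hN fun q hq => (hloc q hq).1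
  have h2 : t ∈ Ideal.span {P ^ n} :=
    mem_span_of_ass hP (pow_mem hP n) (Ideal.mem_span_singleton_self _) fun q hq => (hloc q hq).2
  exact le_antisymm ((Ideal.span_singleton_le_iff_mem _).2 h2) ((Ideal.span_singleton_le_iff_mem _).2 h1)

end Groth.Agent.Div57.Desc
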