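import Groth.Agent.Div57.Desc.Point
import Groth.Agent.FlatDvr.FibreStalk
import Groth.Agent.CDiv6.Normal

/-!
# The points of depth at most one
-/

universe u

set_option autoImplicit false
set_option backward.isDefEq.respectTransparency false
set_option backward.isDefEq.respectTransparency.types false
set_option linter.style.haveILetI false
set_option linter.unusedSectionVars false

open CategoryTheory CategoryTheory.Limits AlgebraicGeometry TopologicalSpace IsLocalRing Opposite Groth.Agent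

namespace Groth.Agent.Div57.Desc

variable {X Y : Scheme.{u}}

/-- The top ideal of an inverse image on the spectrum of a local ring. -/
theorem comap_fromSpecStalk_top (D : X.IdealSheafData) (x : X) :
    (D.comap (X.fromSpecStalk x)).ideal ⟨⊤, isAffineOpen_top _⟩ =
      (stI D x).map (Scheme.ΓSpecIso (X.presheaf.stalk x)).inv.hom := by
  obtain ⟨U, hU, hxU⟩ := exists_aff x
  have hle : (⊤ : (Spec (X.presheaf.stalk x)).Opens) ≤ X.fromSpecStalk x ⁻¹ᵁ U := fun p _ => by
    have h1 : X.fromSpecStalk x p ⤳ x := CDiv6.fromSpecStalk_specializes p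
    exact h1.mem_open U.2 hxU
  rw [ModPairLib.ideal_comap D (X.fromSpecStalk x) ⟨U, hU⟩ ⟨⊤, isAffineOpen_top _⟩ hle, stI_eq D ⟨U, hU⟩ hxU,
    Ideal.map_map]
  congr 1
  rw [← CommRingCat.hom_comp, Scheme.Hom.appLE, Scheme.fromSpecStalk_app hxU, Category.assoc, Category.assoc]
  refine congrArg CommRingCat.Hom.hom (congrArg (X.presheaf.germ U x hxU ≫ ·) ?_)
  rw [← Functor.map_comp]
  exact (congrArg (_ ≫ ·) ((Spec (X.presheaf.stalk x)).presheaf.map_id (op ⊤))).trans (Category.comp_id _)

theorem isUnit_of_eq_top {R : Type*} [CommRing R] {a : R} (h : Ideal.span {a} = ⊤) : IsUnit a :=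
  Ideal.span_singleton_eq_top.1 h

variable (f : X ⟶ Y) (J : X.IdealSheafData)

theorem exists_fibre_point {y : Y} (x : X) (hx : f x = y) : ∃ w : f.fiber y, f.fiberι y w = x := by
  have : x ∈ Set.range (f.fiberι y) := by rw [Scheme.Hom.range_fiberι]; exact hx
  exact this

/-- A trivial restriction to a fibre means no support there. -/
theorem stI_eq_top_iff {y : Y} :
    J.comap (f.fiberι y) = ⊤ ↔ ∀ x, f x = y → stI J x = ⊤ := by
  constructor
  · intro h x hx
    obtain ⟨w, rfl⟩ := exists_fibre_point f x hx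
    have h1 : w ∉ (J.comap (f.fiberι y)).support := by
      rw [h, Scheme.IdealSheafData.support_top]
      exact id
    rw [mem_support_iff, stI_comap, not_not] at h1
    by_contra hne
    have h2 := (Ideal.map_mono (f := ((f.fiberι y).stalkMap w).hom) (le_maximalIdeal hne))
    rw [h1, top_le_iff, Ideal.eq_top_iff_one] at h2
    refine (maximalIdeal.isMaximal _).ne_top ((Ideal.eq_top_iff_one _).2 (?_ : (1 : (f.fiber y).presheaf.stalk w) ∈ maximalIdeal _))
    exact (Ideal.map_le_iff_le_comap.2 fun a ha => by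
      rw [Ideal.mem_comap, IsLocalRing.mem_maximalIdeal]
      exact fun hu => ha (isUnit_of_map_unit _ a hu)) h2
  · intro h
    rw [← Scheme.IdealSheafData.support_eq_bot_iff]
    refine SetLike.ext fun w => ⟨fun hw => ?_, fun hw => (Set.notMem_empty w hw).elim⟩
    refine ((mem_support_iff _).1 hw ?_).elim
    rw [stI_comap, h _ (FlatDvr.fiberι_apply_eq f w), Ideal.map_top]

variable [Flat f]

/-- No divisor on the fibre gives the generator one. -/
theorem goodAt_of_top {y : Y} (h : ∀ x, f x = y → stI J x = ⊤) : GoodAt f J y :=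
  ⟨⊤, trivial, 1, by rw [map_one]; exact one_mem _, fun x hx => by
    rw [h x hx, map_one, map_one, Ideal.span_singleton_one]⟩

theorem span_germ_eq_maximal {y : Y} (x : X) (hx : f x = y) {V : Y.Opens} (hy : y ∈ V) (p : Γ(Y, V))
    (hp : maximalIdeal (Y.presheaf.stalk y) = Ideal.span {Y.presheaf.germ V y hy p}) :
    Ideal.span {X.presheaf.germ (f ⁻¹ᵁ V) x (show f x ∈ V by rw [hx]; exact hy) (f.app V p)} =
      (maximalIdeal (Y.presheaf.stalk (f x))).map (f.stalkMap x).hom := by
  subst hx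
  rw [hp, span_app f x hy p]

theorem germ_app_regular {y : Y} (x : X) (hx : f x = y) {V : Y.Opens} (hy : y ∈ V) (p : Γ(Y, V))
    (hp : Y.presheaf.germ V y hy p ∈ nonZeroDivisors (Y.presheaf.stalk y)) :
    X.presheaf.germ (f ⁻¹ᵁ V) x (show f x ∈ V by rw [hx]; exact hy) (f.app V p) ∈
      nonZeroDivisors (X.presheaf.stalk x) := by
  subst hx
  letI := (f.stalkMap x).hom.toAlgebra
  haveI : Module.Flat (Y.presheaf.stalk (f x)) (X.presheaf.stalk x) := Flat.stalkMap f x
  refine mem_nonZeroDivisors_iff_right.2 fun b hb => ?_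
  have h1 := regular_mod_map (B := X.presheaf.stalk x) (I := (⊥ : Ideal (Y.presheaf.stalk (f x))))
    (r := Y.presheaf.germ V (f x) hy p) (b := b) (fun a ha => by
      rw [Ideal.mem_bot] at ha ⊢
      exact mem_nonZeroDivisors_iff_right.1 hp a (by rw [mul_comm]; exact ha)) (by
      rw [show algebraMap (Y.presheaf.stalk (f x)) (X.presheaf.stalk x) (Y.presheaf.germ V (f x) hy p) =
        X.presheaf.germ (f ⁻¹ᵁ V) x hy (f.app V p) from Scheme.Hom.germ_stalkMap_apply f V x hy p, mul_comm, hb]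
      exact zero_mem _)
  rwa [Ideal.map_bot, Ideal.mem_bot] at h1

variable (hY : Pi1.IsNormalScheme Y)

include hY in
/-- At a point of depth at most one a normal scheme is a field or a valuation ring. -/
theorem field_or_dvr [IsLocallyNoetherian Y] {y : Y}
    (hd : LocCoh.depth (Y.presheaf.stalk y) (Y.presheaf.stalk y) ≤ 1) :
    (∀ z : Y, z ⤳ y → z = y) ∨
      (ringKrullDim (Y.presheaf.stalk y) = 1 ∧ (∀ z : Y, z ⤳ y → z ≠ y → ∀ w : Y, w ⤳ z → w = z) ∧
        ∃ (V : Y.Opens) (hy : y ∈ V) (p : Γ(Y, V)),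
          Y.presheaf.germ V y hy p ∈ nonZeroDivisors (Y.presheaf.stalk y) ∧
          maximalIdeal (Y.presheaf.stalk y) = Ideal.span {Y.presheaf.germ V y hy p}) := by
  haveI := (hY y).1
  haveI := (hY y).2
  by_cases hF : IsField (Y.presheaf.stalk y)
  · refine .inl fun z hz => (H23.StalkPrimes.primeOf_inj (specializes_rfl (x := y)) hz ?_).symm
    have key : ∀ q : Ideal (Y.presheaf.stalk y), q.IsPrime → q = ⊥ := fun q hq => by
      letI := hF.toField
      exact (Ideal.eq_bot_or_top q).resolve_right hq.ne_top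
    rw [key _ (CDiv6.primeOf _).2, key _ (CDiv6.primeOf _).2]
  · have h1 : LocCoh.depth (Y.presheaf.stalk y) (Y.presheaf.stalk y) = 1 := by
      refine le_antisymm hd (Alg6.one_le_depth_iff.2 fun hass => hF ?_)
      obtain ⟨-, z, hz⟩ := Alg6.mem_ass_iff.1 hass
      refine isField_iff_maximalIdeal_eq.2 ((Submodule.eq_bot_iff _).2 fun b hb => ?_)
      have h2 := (hz b).1 hb
      rw [smul_eq_mul] at h2
      refine (mul_eq_zero.1 h2).resolve_right fun hz0 => ?_
      subst hz0
      exact (maximalIdeal.isMaximal _).ne_top ((Ideal.eq_top_iff_one _).2 ((hz 1).2 (smul_zero _)))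
    haveI := CDiv6.isDVR_of_depth_eq_one (Y.presheaf.stalk y) h1
    refine .inr ⟨IsPrincipalIdealRing.ringKrullDim_eq_one _ hF, fun z hz hne w hw => ?_, ?_⟩
    · have hsplit : ∀ (w : Y) (hw : w ⤳ y), w ≠ y → (CDiv6.primeOf hw).asIdeal = ⊥ := fun w hw hne => by
        by_contra hb
        refine hne (H23.StalkPrimes.primeOf_inj hw (specializes_rfl (x := y)) ?_)
        have e := ((Ring.krullDimLE_one_iff_of_isPrime_bot (R := Y.presheaf.stalk y)).1 inferInstance) _ hb
          (CDiv6.primeOf hw).2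
        rw [eq_maximalIdeal e]
        refine (eq_maximalIdeal ?_).symm
        have : (CDiv6.primeOf (specializes_rfl (x := y))).asIdeal = maximalIdeal (Y.presheaf.stalk y) :=
          Ideal.ext fun r => by
            rw [CDiv6.mem_primeOf, TopCat.Presheaf.stalkSpecializes_refl]
            exact Iff.rfl
        rw [this]
        infer_instance
      refine H23.StalkPrimes.primeOf_inj (hw.trans hz) hz ?_
      rw [hsplit z hz hne, hsplit w (hw.trans hz) fun e => hne (hz.antisymm (e ▸ hw)).eq]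
    · obtain ⟨ϖ, hϖ⟩ := IsDiscreteValuationRing.exists_irreducible (Y.presheaf.stalk y)
      obtain ⟨V, hy, p, rfl⟩ := TopCat.Presheaf.exists_germ_eq Y.presheaf ϖ
      exact ⟨V, hy, p, mem_nonZeroDivisors_of_ne_zero hϖ.ne_zero, hϖ.maximalIdeal_eq⟩

variable {y : Y} {V : Y.Opens} (hy : y ∈ V) (p : Γ(Y, V))

/-- A power of the uniformiser lies in the ideal. -/
theorem exists_pow_mem [IsLocallyNoetherian Y] (hp : maximalIdeal (Y.presheaf.stalk y) = Ideal.span {Y.presheaf.germ V y hy p})
    (hgen : ∀ z : Y, z ⤳ y → z ≠ y → ∀ w : Y, w ⤳ z → w = z)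
    (htriv : ∀ η : Y, (∀ z : Y, z ⤳ η → z = η) → ∀ x, f x = η → stI J x = ⊤) (x : X) (hx : f x = y) :
    ∃ N, X.presheaf.germ (f ⁻¹ᵁ V) x (show f x ∈ V by rw [hx]; exact hy) (f.app V p) ^ N ∈ stI J x := by
  have key : X.presheaf.germ (f ⁻¹ᵁ V) x (show f x ∈ V by rw [hx]; exact hy) (f.app V p) ∈ (stI J x).radical := by
    rw [Ideal.radical_eq_sInf, Submodule.mem_sInf]
    rintro q ⟨hJq, hq⟩
    obtain ⟨z, hz, rfl⟩ := H23.StalkPrimes.exists_point q
    have hzy : f z = y := by
      by_contra hne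
      have h1 := htriv (f z) (hgen (f z) (hx ▸ hz.map f.continuous) hne) z rfl
      rw [← stI_map J hz] at h1
      have h2 : (1 : X.presheaf.stalk z) ∈ maximalIdeal (X.presheaf.stalk z) :=
        (Ideal.map_le_iff_le_comap.2 hJq) (h1 ▸ Submodule.mem_top)
      exact (IsLocalRing.mem_maximalIdeal _).1 h2 isUnit_one
    rw [CDiv6.mem_primeOf, TopCat.Presheaf.germ_stalkSpecializes_apply]
    intro hu
    have h3 := span_germ_eq_maximal f z hzy hy p hp
    rw [Ideal.span_singleton_eq_top.2 hu] at h3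
    refine (maximalIdeal.isMaximal (X.presheaf.stalk z)).ne_top (top_le_iff.1 (h3.le.trans ?_))
    exact Ideal.map_le_iff_le_comap.2 fun a ha hu' => ha (isUnit_of_map_unit _ a hu')
  exact key

/-- On an integral fibre the uniformiser is prime. -/
theorem isPrime_germ (hp : maximalIdeal (Y.presheaf.stalk y) = Ideal.span {Y.presheaf.germ V y hy p})
    (hint : IsIntegral (f.fiber y)) (x : X) (hx : f x = y) :
    (Ideal.span {X.presheaf.germ (f ⁻¹ᵁ V) x (show f x ∈ V by rw [hx]; exact hy) (f.app V p)}).IsPrime := by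
  obtain ⟨w, rfl⟩ := exists_fibre_point f x hx
  rw [span_germ_eq_maximal f _ hx hy p hp, ← FlatDvr.ker_stalkMap_fiberι f w]
  exact RingHom.ker_isPrime _

theorem goodAt_of_dvr_integral [IsLocallyNoetherian Y] [Surjective f]
    (hJ : BlowUp.IsEffCartierIdeal J) (hp0 : Y.presheaf.germ V y hy p ∈ nonZeroDivisors (Y.presheaf.stalk y))
    (hp : maximalIdeal (Y.presheaf.stalk y) = Ideal.span {Y.presheaf.germ V y hy p})
    (hgen : ∀ z : Y, z ⤳ y → z ≠ y → ∀ w : Y, w ⤳ z → w = z)
    (htriv : ∀ η : Y, (∀ z : Y, z ⤳ η → z = η) → ∀ x, f x = η → stI J x = ⊤)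
    (hint : IsIntegral (f.fiber y)) : GoodAt f J y := by
  let P := fun (x : X) (hx : f x = y) => X.presheaf.germ (f ⁻¹ᵁ V) x (show f x ∈ V by rw [hx]; exact hy) (f.app V p)
  have hk : ∀ (x : X) (hx : f x = y), ∃ k, stI J x = Ideal.span {P x hx ^ k} := by
    intro x hx
    obtain ⟨t, ht, hJt⟩ := stI_of_effCartier J hJ x
    obtain ⟨N, hN⟩ := exists_pow_mem f J hy p hp hgen htriv x hx
    rw [hJt] at hN
    obtain ⟨k, hk⟩ := exists_pow_of_prime (germ_app_regular f x hx hy p hp0) (isPrime_germ f hy p hp hint x hx) N hN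
    exact ⟨k, hJt.trans hk⟩
  let z := f.fiberι y (genericPoint (f.fiber y))
  have hzy : f z = y := FlatDvr.fiberι_apply_eq f _
  have hspec : ∀ x, f x = y → z ⤳ x := fun x hx => by
    obtain ⟨w, rfl⟩ := exists_fibre_point f x hx
    exact (genericPoint_specializes w).map (f.fiberι y).continuous
  obtain ⟨k₀, hk₀⟩ := hk z hzy
  have key : ∀ a b : ℕ, a ≤ b → Ideal.span {P z hzy ^ a} = Ideal.span {P z hzy ^ b} → a = b := by
    intro a b hab he
    by_contra hne
    obtain ⟨c, hc⟩ := Ideal.mem_span_singleton.1 (he ▸ Ideal.mem_span_singleton_self (P z hzy ^ a))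
    have h1 : P z hzy ^ (b - a) * c = 1 := by
      refine (mul_cancel_left_mem_nonZeroDivisors (pow_mem (germ_app_regular f z hzy hy p hp0) a)).1 ?_
      rw [mul_one, ← mul_assoc, ← pow_add, Nat.add_sub_cancel' hab]
      exact hc.symm
    have h2 : IsUnit (P z hzy) := (isUnit_pow_iff (Nat.sub_ne_zero_of_lt (lt_of_le_of_ne hab hne))).1 (IsUnit.of_mul_eq_one c h1)
    exact (isPrime_germ f hy p hp hint z hzy).ne_top (Ideal.span_singleton_eq_top.2 h2)
  refine ⟨V, hy, p ^ k₀, by rw [map_pow]; exact pow_mem hp0 k₀, fun x hx => ?_⟩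
  obtain ⟨k, hk'⟩ := hk x hx
  have h1 := stI_map J (hspec x hx)
  rw [hk', Ideal.map_span, Set.image_singleton, map_pow, hk₀] at h1
  have h2 : Ideal.span {P z hzy ^ k} = Ideal.span {P z hzy ^ k₀} := by
    refine (congrArg (fun r => Ideal.span {r ^ k}) ?_).trans h1
    exact (TopCat.Presheaf.germ_stalkSpecializes_apply X.presheaf _ (hspec x hx) (f.app V p)).symm
  have hkk : k = k₀ := by
    rcases le_total k k₀ with h | h
    · exact key k k₀ h h2
    · exact (key k₀ k h h2.symm).symm
  rw [hk', hkk, map_pow, map_pow]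

end Groth.Agent.Div57.Desc
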