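import Groth.Agent.Div57.StIdeal
import Groth.Agent.ModPairLib.Basic
import Groth.Agent.QCoh.Stalk

/-!
# Ideal sheaves from their stalks
-/

universe u

set_option autoImplicit false
set_option backward.isDefEq.respectTransparency false
set_option backward.isDefEq.respectTransparency.types false
set_option linter.style.haveILetI false

open CategoryTheory AlgebraicGeometry TopologicalSpace Groth.Agent

namespace Groth.Agent.Div57.Desc

variable {X Y : Scheme.{u}}

/-- An ideal of an affine open is determined by its stalks. -/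
theorem mem_of_forall_germ {U : X.Opens} (hU : IsAffineOpen U) (I : Ideal Γ(X, U)) (a : Γ(X, U))
    (h : ∀ (z : X) (hz : z ∈ U), X.presheaf.germ U z hz a ∈ I.map (X.presheaf.germ U z hz).hom) : a ∈ I := by
  let C : Ideal Γ(X, U) := Submodule.comap (LinearMap.mulRight Γ(X, U) a) I
  suffices hC : C = ⊤ by
    have h1 : (1 : Γ(X, U)) ∈ C := hC ▸ Submodule.mem_top
    simpa [C] using h1
  by_contra hne
  obtain ⟨p, hp, hle⟩ := Ideal.exists_le_maximal C hne
  obtain ⟨z, hz, hzp⟩ := QCoh.exists_point hU ⟨p, hp.isPrime⟩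
  letI := (X.presheaf.germ U z hz).hom.toAlgebra
  haveI := hU.isLocalization_stalk ⟨z, hz⟩
  obtain ⟨c, hc, hca⟩ := (IsLocalization.algebraMap_mem_map_algebraMap_iff
    (hU.primeIdealOf ⟨z, hz⟩).asIdeal.primeCompl (X.presheaf.stalk z) _ a).1 (h z hz)
  exact hc (by rw [hzp]; exact hle hca)

theorem mem_ideal_of_stI (D : X.IdealSheafData) (U : X.affineOpens) (a : Γ(X, U.1))
    (h : ∀ (z : X) (hz : z ∈ U.1), X.presheaf.germ U.1 z hz a ∈ stI D z) : a ∈ D.ideal U :=
  mem_of_forall_germ U.2 _ a fun z hz => stI_eq D U hz ▸ h z hz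

theorem ext_stI {D D' : X.IdealSheafData} (h : ∀ x, stI D x = stI D' x) : D = D' := by
  have key : ∀ {D D' : X.IdealSheafData}, (∀ x, stI D x = stI D' x) → ∀ U, D.ideal U ≤ D'.ideal U :=
    fun {D D'} h U a ha => mem_ideal_of_stI D' U a fun z hz => by
      rw [← h z, stI_eq D U hz]; exact Ideal.mem_map_of_mem _ ha
  exact Scheme.IdealSheafData.ext (funext fun U => le_antisymm (key h U) (key (fun x => (h x).symm) U))

/-- Stalks of an inverse image ideal. -/
theorem stI_comap (f : X ⟶ Y) (I : Y.IdealSheafData) (x : X) :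
    stI (I.comap f) x = (stI I (f x)).map (f.stalkMap x).hom := by
  obtain ⟨V, hV, hyV⟩ := exists_aff (f x)
  obtain ⟨W, hW, hxW, hWV⟩ := exists_isAffineOpen_mem_and_subset (x := x) (U := f ⁻¹ᵁ V) hyV
  replace hWV : W ≤ f ⁻¹ᵁ V := hWV
  rw [stI_eq _ ⟨W, hW⟩ hxW, stI_eq I ⟨V, hV⟩ hyV, ModPairLib.ideal_comap I f ⟨V, hV⟩ ⟨W, hW⟩ hWV,
    Ideal.map_map, Ideal.map_map]
  congr 1
  rw [← CommRingCat.hom_comp, ← CommRingCat.hom_comp, Scheme.Hom.germ_stalkMap, Scheme.Hom.appLE,
    Category.assoc, TopCat.Presheaf.germ_res]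

/-- Principal stalks from a section define an ideal sheaf. -/
theorem exists_ideal_of_germs [IsLocallyNoetherian Y] (g : ∀ y : Y, Y.presheaf.stalk y)
    (h : ∀ y : Y, ∃ (V : Y.Opens) (_ : y ∈ V) (s : Γ(Y, V)), ∀ (z : Y) (hz : z ∈ V),
      Ideal.span {g z} = Ideal.span {Y.presheaf.germ V z hz s}) :
    ∃ I : Y.IdealSheafData, ∀ y, stI I y = Ideal.span {g y} := by
  classical
  let J : ∀ U : Y.affineOpens, Ideal Γ(Y, U.1) := fun U =>
    ⨅ z : U.1, (Ideal.span {g z.1}).comap (Y.presheaf.germ U.1 z.1 z.2).hom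
  have hmem : ∀ (U : Y.affineOpens) (a : Γ(Y, U.1)),
      a ∈ J U ↔ ∀ (z : Y) (hz : z ∈ U.1), Y.presheaf.germ U.1 z hz a ∈ Ideal.span {g z} := fun U a => by
    simp only [J, Ideal.mem_iInf, Ideal.mem_comap]
    exact ⟨fun h z hz => h ⟨z, hz⟩, fun h z => h z.1 z.2⟩
  have hlocal : ∀ y : Y, ∃ (W : Y.affineOpens) (_ : y ∈ W.1) (s : Γ(Y, W.1)), ∀ (z : Y) (hz : z ∈ W.1),
      Ideal.span {g z} = Ideal.span {Y.presheaf.germ W.1 z hz s} := fun y => by
    obtain ⟨V, hyV, s, hs⟩ := h y
    obtain ⟨W, hW, hyW, hWV⟩ := exists_isAffineOpen_mem_and_subset (x := y) (U := V) hyV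
    replace hWV : W ≤ V := hWV
    exact ⟨⟨W, hW⟩, hyW, Y.presheaf.map (homOfLE hWV).op s, fun z hz => by
      rw [TopCat.Presheaf.germ_res_apply]; exact hs z (hWV hz)⟩
  -- clearing denominators on a basic open
  have hclear : ∀ (U : Y.affineOpens) (r : Γ(Y, U.1)) (a : Γ(Y, U.1)),
      (∀ (z : Y) (hz : z ∈ Y.basicOpen r), Y.presheaf.germ U.1 z (Y.basicOpen_le r hz) a ∈ Ideal.span {g z}) →
      ∃ N : ℕ, r ^ N * a ∈ J U := by
    intro U r a ha
    have hloc : ∀ y : U.1, ∃ (W : Y.affineOpens) (N : ℕ), y.1 ∈ W.1 ∧ W.1 ≤ U.1 ∧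
        ∀ (z : Y) (hz : z ∈ U.1), z ∈ W.1 → Y.presheaf.germ U.1 z hz (r ^ N * a) ∈ Ideal.span {g z} := by
      intro y
      obtain ⟨W₀, hyW₀, s₀, hs₀⟩ := hlocal y.1
      obtain ⟨W, hW, hyW, hWle⟩ := exists_isAffineOpen_mem_and_subset (x := y.1) (U := W₀.1 ⊓ U.1) ⟨hyW₀, y.2⟩
      replace hWle : W ≤ W₀.1 ⊓ U.1 := hWle
      let s := Y.presheaf.map (homOfLE (hWle.trans inf_le_left)).op s₀
      let r' := Y.presheaf.map (homOfLE (hWle.trans inf_le_right)).op r
      let a' := Y.presheaf.map (homOfLE (hWle.trans inf_le_right)).op a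
      let C : Ideal Γ(Y, W) := Submodule.comap (LinearMap.mulRight Γ(Y, W) a') (Ideal.span {s})
      have hrad : r' ∈ C.radical := by
        rw [Ideal.radical_eq_sInf, Submodule.mem_sInf]
        rintro p ⟨hCp, hp⟩
        by_contra hrp
        obtain ⟨z, hz, hzp⟩ := QCoh.exists_point hW ⟨p, hp⟩
        have hzr : z ∈ Y.basicOpen r := by
          have h1 : z ∈ Y.basicOpen r' := (QCoh.mem_basicOpen_iff_notMem hW hz r').2 (by rw [hzp]; exact hrp)
          rw [Scheme.basicOpen_res] at h1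
          exact h1.2
        letI := (Y.presheaf.germ W z hz).hom.toAlgebra
        haveI := hW.isLocalization_stalk ⟨z, hz⟩
        have h2 := ha z hzr
        rw [hs₀ z (hWle hz).1] at h2
        have h3 : Y.presheaf.germ W z hz a' ∈ (Ideal.span {s}).map (Y.presheaf.germ W z hz).hom := by
          rw [Ideal.map_span, Set.image_singleton]
          simp only [a', s, TopCat.Presheaf.germ_res_apply]
          exact h2
        obtain ⟨c, hc, hca⟩ := (IsLocalization.algebraMap_mem_map_algebraMap_iff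
          (hW.primeIdealOf ⟨z, hz⟩).asIdeal.primeCompl (Y.presheaf.stalk z) _ a').1 h3
        exact hc (by rw [hzp]; exact hCp hca)
      obtain ⟨N, hN⟩ := hrad
      refine ⟨⟨W, hW⟩, N, hyW, hWle.trans inf_le_right, fun z hz hzW => ?_⟩
      obtain ⟨d, hd⟩ := Ideal.mem_span_singleton.1 (show r' ^ N * a' ∈ Ideal.span {s} from hN)
      rw [hs₀ z (hWle hzW).1]
      refine Ideal.mem_span_singleton.2 ⟨Y.presheaf.germ W z hzW d, ?_⟩
      have h4 := congrArg (Y.presheaf.germ W z hzW) hd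
      simp only [map_mul, map_pow] at h4 ⊢
      simpa only [r', a', s, TopCat.Presheaf.germ_res_apply] using h4
    choose W N hyW hWU hW using hloc
    obtain ⟨T, hT⟩ := U.2.isCompact.elim_finite_subcover (fun y : U.1 => ((W y).1 : Set Y)) (fun y => (W y).1.2)
      (fun z hz => Set.mem_iUnion.2 ⟨⟨z, hz⟩, hyW _⟩)
    refine ⟨T.sup N, (hmem U _).2 fun z hz => ?_⟩
    obtain ⟨y, hy, hzy⟩ := Set.mem_iUnion₂.1 (hT hz)
    rw [← Nat.sub_add_cancel (Finset.le_sup (f := N) hy), pow_add, mul_assoc, map_mul]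
    exact Ideal.mul_mem_left _ _ (hW y z hz hzy)
  let I : Y.IdealSheafData :=
    { ideal := J
      map_ideal_basicOpen := fun U r => by
        refine le_antisymm (Ideal.map_le_iff_le_comap.2 fun a ha => ?_) fun b hb => ?_
        · rw [Ideal.mem_comap, hmem]
          intro z hz
          have h1 := (hmem U a).1 ha z (Y.basicOpen_le r hz)
          rwa [← TopCat.Presheaf.germ_res_apply Y.presheaf (homOfLE (Y.basicOpen_le r)) z hz a] at h1
        · letI : Algebra Γ(Y, U.1) Γ(Y, Y.basicOpen r) := (Y.presheaf.map (homOfLE (Y.basicOpen_le r)).op).hom.toAlgebra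
          haveI := U.2.isLocalization_basicOpen r
          obtain ⟨⟨a, ⟨_, n, rfl⟩⟩, hba⟩ := IsLocalization.surj (Submonoid.powers r) b
          obtain ⟨N, hN⟩ := hclear U r a fun z hz => by
            have h2 := congrArg (Y.presheaf.germ (Y.basicOpen r) z hz) hba
            change Y.presheaf.germ _ z hz (b * Y.presheaf.map (homOfLE (Y.basicOpen_le r)).op (r ^ n)) =
              Y.presheaf.germ _ z hz (Y.presheaf.map (homOfLE (Y.basicOpen_le r)).op a) at h2
            rw [map_mul, TopCat.Presheaf.germ_res_apply, TopCat.Presheaf.germ_res_apply] at h2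
            rw [← h2]
            exact Ideal.mul_mem_right _ _ ((hmem ⟨Y.basicOpen r, U.2.basicOpen r⟩ b).1 hb z hz)
          have hu : IsUnit (algebraMap Γ(Y, U.1) Γ(Y, Y.basicOpen r) (r ^ N * r ^ n)) := by
            rw [← pow_add]
            exact IsLocalization.map_units _ (⟨_, N + n, rfl⟩ : Submonoid.powers r)
          refine (Ideal.unit_mul_mem_iff_mem _ hu).1 ?_
          rw [map_mul, mul_assoc, mul_comm _ b, hba, ← map_mul]
          exact Ideal.mem_map_of_mem _ hN }
  refine ⟨I, fun y => ?_⟩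
  obtain ⟨W, hyW, s, hs⟩ := hlocal y
  rw [hs y hyW, stI_eq I W hyW]
  have hI : J W = Ideal.span {s} := by
    refine le_antisymm (fun a ha => mem_of_forall_germ W.2 _ a fun z hz => ?_) ?_
    · rw [Ideal.map_span, Set.image_singleton, ← hs z hz]
      exact (hmem W a).1 ha z hz
    · rw [Ideal.span_singleton_le_iff_mem, hmem]
      intro z hz
      rw [hs z hz]
      exact Ideal.mem_span_singleton_self _
  show (J W).map _ = _
  rw [hI, Ideal.map_span, Set.image_singleton]

end Groth.Agent.Div57.Desc
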