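import Groth.Agent.Div57.Desc.Alg
import Groth.Agent.Div57.Desc.Sheaf
import Groth.Agent.H23.StalkPrimes

/-!
# Descent of effective Cartier divisors along flat surjective morphisms
-/

universe u

set_option autoImplicit false
set_option backward.isDefEq.respectTransparency false
set_option backward.isDefEq.respectTransparency.types false
set_option linter.style.haveILetI false
set_option linter.unusedSectionVars false

open CategoryTheory CategoryTheory.Limits AlgebraicGeometry TopologicalSpace IsLocalRing Groth.Agent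

namespace Groth.Agent.Div57.Desc

variable {X Y : Scheme.{u}} (f : X ⟶ Y) (J : X.IdealSheafData)

/-- The ideal `J` is generated on the fibre over `y` by one function on the base. -/
def GoodAt (y : Y) : Prop :=
  ∃ (V : Y.Opens) (hy : y ∈ V) (a : Γ(Y, V)), Y.presheaf.germ V y hy a ∈ nonZeroDivisors (Y.presheaf.stalk y) ∧
    ∀ (x : X) (hx : f x = y),
      stI J x = Ideal.span {X.presheaf.germ (f ⁻¹ᵁ V) x (show f x ∈ V by rw [hx]; exact hy) (f.app V a)}

theorem span_app (x : X) {V : Y.Opens} (hx : f x ∈ V) (a : Γ(Y, V)) :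
    Ideal.span {X.presheaf.germ (f ⁻¹ᵁ V) x hx (f.app V a)} =
      (Ideal.span {Y.presheaf.germ V (f x) hx a}).map (f.stalkMap x).hom := by
  rw [Ideal.map_span, Set.image_singleton]
  exact congrArg (fun t => Ideal.span {t}) (Scheme.Hom.germ_stalkMap_apply f V x hx a).symm

theorem span_app_eq {y : Y} (x : X) (hx : f x = y) {V V' : Y.Opens} (hy : y ∈ V) (hy' : y ∈ V')
    (a : Γ(Y, V)) (a' : Γ(Y, V'))
    (h : Ideal.span {Y.presheaf.germ V y hy a} = Ideal.span {Y.presheaf.germ V' y hy' a'}) :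
    Ideal.span {X.presheaf.germ (f ⁻¹ᵁ V) x (show f x ∈ V by rw [hx]; exact hy) (f.app V a)} =
      Ideal.span {X.presheaf.germ (f ⁻¹ᵁ V') x (show f x ∈ V' by rw [hx]; exact hy') (f.app V' a')} := by
  subst hx
  rw [span_app f x hy a, span_app f x hy' a', h]

variable [Flat f]

theorem span_eq_of_app_eq {y : Y} (x : X) (hx : f x = y) {V V' : Y.Opens} (hy : y ∈ V) (hy' : y ∈ V')
    (a : Γ(Y, V)) (a' : Γ(Y, V'))
    (h : Ideal.span {X.presheaf.germ (f ⁻¹ᵁ V) x (show f x ∈ V by rw [hx]; exact hy) (f.app V a)} =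
      Ideal.span {X.presheaf.germ (f ⁻¹ᵁ V') x (show f x ∈ V' by rw [hx]; exact hy') (f.app V' a')}) :
    Ideal.span {Y.presheaf.germ V y hy a} = Ideal.span {Y.presheaf.germ V' y hy' a'} := by
  subst hx
  rw [span_app f x hy a, span_app f x hy' a', Ideal.map_span, Ideal.map_span, Set.image_singleton,
    Set.image_singleton] at h
  letI := (f.stalkMap x).hom.toAlgebra
  haveI : Module.Flat (Y.presheaf.stalk (f x)) (X.presheaf.stalk x) := Flat.stalkMap f x
  haveI : IsLocalHom (algebraMap (Y.presheaf.stalk (f x)) (X.presheaf.stalk x)) :=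
    inferInstanceAs (IsLocalHom (f.stalkMap x).hom)
  haveI := Module.FaithfullyFlat.of_flat_of_isLocalHom (A := Y.presheaf.stalk (f x)) (B := X.presheaf.stalk x)
  exact span_eq_of_map h

theorem regular_of_span_eq {R : Type*} [CommRing R] {a a' : R} (h : Ideal.span {a} = Ideal.span {a'})
    (ha : a ∈ nonZeroDivisors R) : a' ∈ nonZeroDivisors R := by
  obtain ⟨c, hc⟩ := Ideal.mem_span_singleton.1 (h ▸ Ideal.mem_span_singleton_self a)
  rw [hc] at ha
  exact (mul_mem_nonZeroDivisors.1 ha).1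

/-- A generator at one point of a good fibre generates on the fibre. -/
theorem GoodAt.indep {y : Y} (h : GoodAt f J y) {V : Y.Opens} (hy : y ∈ V) (a : Γ(Y, V)) (x₀ : X)
    (hx₀ : f x₀ = y)
    (h₀ : stI J x₀ = Ideal.span {X.presheaf.germ (f ⁻¹ᵁ V) x₀ (show f x₀ ∈ V by rw [hx₀]; exact hy) (f.app V a)}) :
    Y.presheaf.germ V y hy a ∈ nonZeroDivisors (Y.presheaf.stalk y) ∧ ∀ (x : X) (hx : f x = y),
      stI J x = Ideal.span {X.presheaf.germ (f ⁻¹ᵁ V) x (show f x ∈ V by rw [hx]; exact hy) (f.app V a)} := by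
  obtain ⟨V', hy', a', ha', hall⟩ := h
  have key := span_eq_of_app_eq f x₀ hx₀ hy' hy a' a ((hall x₀ hx₀).symm.trans h₀)
  exact ⟨regular_of_span_eq key ha', fun x hx => (hall x hx).trans (span_app_eq f x hx hy' hy a' a key)⟩

/-- Going down. -/
theorem exists_lift {x : X} {y' : Y} (h : y' ⤳ f x) : ∃ z : X, z ⤳ x ∧ f z = y' := by
  letI := (f.stalkMap x).hom.toAlgebra
  haveI : Module.Flat (Y.presheaf.stalk (f x)) (X.presheaf.stalk x) := Flat.stalkMap f x
  haveI : IsLocalHom (algebraMap (Y.presheaf.stalk (f x)) (X.presheaf.stalk x)) :=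
    inferInstanceAs (IsLocalHom (f.stalkMap x).hom)
  haveI := Module.FaithfullyFlat.of_flat_of_isLocalHom (A := Y.presheaf.stalk (f x)) (B := X.presheaf.stalk x)
  obtain ⟨q, hq⟩ := PrimeSpectrum.comap_surjective_of_faithfullyFlat (B := X.presheaf.stalk x) (CDiv6.primeOf h)
  obtain ⟨z, hz, hzq⟩ := H23.StalkPrimes.exists_point (x := x) q.asIdeal
  refine ⟨z, hz, H23.StalkPrimes.primeOf_inj (hz.map f.continuous) h ?_⟩
  rw [← H23.StalkPrimes.comap_primeOf f hz, hzq]
  exact congrArg PrimeSpectrum.asIdeal hq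

theorem stI_germ_gen {x z : X} (h : z ⤳ x) {V : Y.Opens} (hx : f x ∈ V) (a : Γ(Y, V))
    (hJ : stI J x = Ideal.span {X.presheaf.germ (f ⁻¹ᵁ V) x hx (f.app V a)}) :
    stI J z = Ideal.span {X.presheaf.germ (f ⁻¹ᵁ V) z ((h.map f.continuous).mem_open V.2 hx) (f.app V a)} := by
  rw [← stI_map J h, hJ, Ideal.map_span, Set.image_singleton]
  exact congrArg (fun t => Ideal.span {t}) (TopCat.Presheaf.germ_stalkSpecializes_apply X.presheaf hx h _)

/-- A generator on a fibre generates on the fibres over the generizations. -/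
theorem GoodAt.gen [Surjective f] {y y' : Y} (h : y' ⤳ y) (hgood : GoodAt f J y') {V : Y.Opens} (hy : y ∈ V)
    (a : Γ(Y, V))
    (hall : ∀ (x : X) (hx : f x = y),
      stI J x = Ideal.span {X.presheaf.germ (f ⁻¹ᵁ V) x (show f x ∈ V by rw [hx]; exact hy) (f.app V a)}) :
    ∀ (x : X) (hx : f x = y'),
      stI J x = Ideal.span {X.presheaf.germ (f ⁻¹ᵁ V) x (show f x ∈ V by rw [hx]; exact h.mem_open V.2 hy) (f.app V a)} := by
  obtain ⟨x₀, hx₀⟩ := f.surjective y
  obtain ⟨z, hz, hzy⟩ := exists_lift f (x := x₀) (y' := y') (hx₀.symm ▸ h)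
  exact (hgood.indep f J (h.mem_open V.2 hy) a z hzy
    (stI_germ_gen f J hz (show f x₀ ∈ V by rw [hx₀]; exact hy) a (hall x₀ hx₀))).2

/-- An element locally in a principal ideal above `p` is so after multiplying by an element outside `p`. -/
theorem exists_notMem {A B : Type u} [CommRing A] [CommRing B] (φ : A →+* B) (p : Ideal A) [p.IsPrime]
    (t b : B) (h : ∀ q : Ideal B, q.IsPrime → q.comap φ ≤ p → ∃ w ∉ q, w * b ∈ Ideal.span {t}) :
    ∃ u ∉ p, φ u * b ∈ Ideal.span {t} := by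
  by_contra hno
  push Not at hno
  let C : Ideal B := Submodule.comap (LinearMap.mulRight B b) (Ideal.span {t})
  have hdisj : Disjoint (C : Set B) (p.primeCompl.map φ : Submonoid B) := by
    refine Set.disjoint_left.2 ?_
    rintro _ hc ⟨u, hu, rfl⟩
    exact hno u hu hc
  obtain ⟨q, hq, hCq, hqS⟩ := Ideal.exists_le_prime_disjoint _ _ hdisj
  obtain ⟨w, hw, hwb⟩ := h q hq fun u hu => by_contra fun hup =>
    Set.disjoint_left.1 hqS hu ⟨u, hup, rfl⟩
  exact hw (hCq hwb)

/-- Elements of the stalk at `y` with equal spans at every proper generization. -/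
theorem span_eq_of_punctured [IsLocallyNoetherian Y] {y : Y}
    (hd : 2 ≤ LocCoh.depth (Y.presheaf.stalk y) (Y.presheaf.stalk y))
    {a a' : Y.presheaf.stalk y} (ha : a ∈ nonZeroDivisors (Y.presheaf.stalk y))
    (ha' : a' ∈ nonZeroDivisors (Y.presheaf.stalk y))
    (h : ∀ (y' : Y) (hy' : y' ⤳ y), y' ≠ y → Ideal.span {Y.presheaf.stalkSpecializes hy' a} =
      Ideal.span ({Y.presheaf.stalkSpecializes hy' a'} : Set (Y.presheaf.stalk y'))) :
    Ideal.span {a} = Ideal.span {a'} := by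
  suffices key : ∀ a a' : Y.presheaf.stalk y, a' ∈ nonZeroDivisors (Y.presheaf.stalk y) →
      (∀ (y' : Y) (hy' : y' ⤳ y), y' ≠ y → Y.presheaf.stalkSpecializes hy' a ∈
        Ideal.span ({Y.presheaf.stalkSpecializes hy' a'} : Set (Y.presheaf.stalk y'))) → a ∈ Ideal.span {a'} from
    le_antisymm ((Ideal.span_singleton_le_iff_mem _).2 (key a a' ha' fun y' hy' hne =>
        h y' hy' hne ▸ Ideal.mem_span_singleton_self _))
      ((Ideal.span_singleton_le_iff_mem _).2 (key a' a ha fun y' hy' hne =>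
        (h y' hy' hne).symm ▸ Ideal.mem_span_singleton_self _))
  intro a a' ha' h
  obtain ⟨r₁, hr₁, r₂, hr₂, h₁, h₂⟩ := exists_pair (B := Y.presheaf.stalk y) hd
  obtain ⟨N, hN⟩ := exists_pow_le (Submodule.comap (LinearMap.mulRight (Y.presheaf.stalk y) a) (Ideal.span {a'}))
    fun p hp hne hle => by
      obtain ⟨y', hy', hpy⟩ := H23.StalkPrimes.exists_point p
      have hne' : y' ≠ y := fun e => by
        subst e
        refine hne (le_antisymm (le_maximalIdeal hp.ne_top) fun r hr => hpy ▸ (CDiv6.mem_primeOf hy' r).2 ?_)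
        rw [TopCat.Presheaf.stalkSpecializes_refl]
        exact hr
      letI := (Y.presheaf.stalkSpecializes hy').hom.toAlgebra
      haveI := H23.StalkPrimes.isLocalization_primeOf hy'
      have h3 : algebraMap (Y.presheaf.stalk y) (Y.presheaf.stalk y') a ∈
          (Ideal.span {a'}).map (algebraMap (Y.presheaf.stalk y) (Y.presheaf.stalk y')) := by
        rw [Ideal.map_span, Set.image_singleton]
        exact h y' hy' hne'
      obtain ⟨c, hc, hca⟩ := (IsLocalization.algebraMap_mem_map_algebraMap_iff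
        (CDiv6.primeOf hy').asIdeal.primeCompl (Y.presheaf.stalk y') _ a).1 h3
      exact hc (hpy.symm ▸ hle hca)
  exact mem_span_of_pow ha' hr₁ hr₂ h₁ h₂ N a fun c hc => hN hc

variable [Surjective f] [IsLocallyNoetherian Y]

/-- The generator at a point over a point of depth two, from the proper generizations. -/
theorem exists_gen_stalk (hJ : BlowUp.IsEffCartierIdeal J) (x : X)
    (hd : 2 ≤ LocCoh.depth (Y.presheaf.stalk (f x)) (Y.presheaf.stalk (f x)))
    (hgen : ∀ y', y' ⤳ f x → y' ≠ f x → GoodAt f J y') :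
    ∃ (V : Y.Opens) (hy : f x ∈ V) (a : Γ(Y, V)),
      Y.presheaf.germ V (f x) hy a ∈ nonZeroDivisors (Y.presheaf.stalk (f x)) ∧
      stI J x = Ideal.span {X.presheaf.germ (f ⁻¹ᵁ V) x hy (f.app V a)} := by
  obtain ⟨t, ht, hJt⟩ := stI_of_effCartier J hJ x
  letI := (f.stalkMap x).hom.toAlgebra
  haveI : Module.Flat (Y.presheaf.stalk (f x)) (X.presheaf.stalk x) := Flat.stalkMap f x
  haveI : IsLocalHom (algebraMap (Y.presheaf.stalk (f x)) (X.presheaf.stalk x)) :=
    inferInstanceAs (IsLocalHom (f.stalkMap x).hom)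
  obtain ⟨a, ha⟩ := exists_descended hd ht fun p hp hne => by
    obtain ⟨y', hy', hpy⟩ := H23.StalkPrimes.exists_point p
    subst hpy
    have hne' : y' ≠ f x := fun e => by
      subst e
      refine hne (le_antisymm (le_maximalIdeal hp.ne_top) fun r hr => (CDiv6.mem_primeOf hy' r).2 ?_)
      rw [TopCat.Presheaf.stalkSpecializes_refl]
      exact hr
    obtain ⟨V', hyV', a', -, hall⟩ := hgen y' hy' hne'
    letI := (Y.presheaf.stalkSpecializes hy').hom.toAlgebra
    haveI := H23.StalkPrimes.isLocalization_primeOf hy'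
    obtain ⟨⟨c, d⟩, hcd⟩ := IsLocalization.surj (CDiv6.primeOf hy').asIdeal.primeCompl
      (Y.presheaf.germ V' y' hyV' a')
    have hspan : Ideal.span {Y.presheaf.germ V' y' hyV' a'} =
        Ideal.span {Y.presheaf.stalkSpecializes hy' c} := by
      rw [show Y.presheaf.stalkSpecializes hy' c = Y.presheaf.germ V' y' hyV' a' *
        algebraMap (Y.presheaf.stalk (f x)) (Y.presheaf.stalk y') d from hcd.symm,
        Ideal.span_singleton_mul_right_unit (IsLocalization.map_units (Y.presheaf.stalk y') d)]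
    have key : ∀ (z : X) (hz : z ⤳ x), f z ⤳ y' →
        (Ideal.span {t}).map (X.presheaf.stalkSpecializes hz).hom =
          (Ideal.span {f.stalkMap x c}).map (X.presheaf.stalkSpecializes hz).hom := by
      intro z hz hzy'
      have hg : GoodAt f J (f z) := hgen _ (hz.map f.continuous) fun e =>
        hne' ((hy'.antisymm (e ▸ hzy')).eq)
      rw [← hJt, stI_map J hz, GoodAt.gen f J hzy' hg hyV' a' hall z rfl, span_app]
      have h2 : Ideal.span {Y.presheaf.germ V' (f z) (hzy'.mem_open V'.2 hyV') a'} =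
          Ideal.span {Y.presheaf.stalkSpecializes (hz.map f.continuous) c} := by
        have h3 := congrArg (Ideal.map (Y.presheaf.stalkSpecializes hzy').hom) hspan
        rw [Ideal.map_span, Ideal.map_span, Set.image_singleton, Set.image_singleton] at h3
        refine (congrArg (fun r => Ideal.span {r})
          (TopCat.Presheaf.germ_stalkSpecializes_apply Y.presheaf hyV' hzy' a').symm).trans (h3.trans ?_)
        exact congrArg (fun r => Ideal.span {r})
          (TopCat.Presheaf.stalkSpecializes_comp_apply Y.presheaf hzy' hy' c)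
      rw [h2, Ideal.map_span, Ideal.map_span, Set.image_singleton, Set.image_singleton]
      exact congrArg (fun r => Ideal.span {r})
        (Scheme.Hom.stalkSpecializes_stalkMap_apply f z x hz c)
    have hloc : ∀ b b' : X.presheaf.stalk x, (∀ (z : X) (hz : z ⤳ x), f z ⤳ y' →
        X.presheaf.stalkSpecializes hz b ∈ (Ideal.span {b'}).map (X.presheaf.stalkSpecializes hz).hom) →
        ∃ u ∉ (CDiv6.primeOf hy').asIdeal, algebraMap (Y.presheaf.stalk (f x)) (X.presheaf.stalk x) u * b ∈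
          Ideal.span {b'} := fun b b' hbb => exists_notMem _ _ b' b fun q hq hqp => by
      obtain ⟨z, hz, hzq⟩ := H23.StalkPrimes.exists_point q
      subst hzq
      have hzy' : f z ⤳ y' := by
        rw [← H23.StalkPrimes.primeOf_le_iff hy' (hz.map f.continuous), ← H23.StalkPrimes.comap_primeOf f hz]
        exact hqp
      letI := (X.presheaf.stalkSpecializes hz).hom.toAlgebra
      haveI := H23.StalkPrimes.isLocalization_primeOf hz
      obtain ⟨w, hw, hwb⟩ := (IsLocalization.algebraMap_mem_map_algebraMap_iff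
        (CDiv6.primeOf hz).asIdeal.primeCompl (X.presheaf.stalk z) _ b).1 (hbb z hz hzy')
      exact ⟨w, hw, hwb⟩
    refine ⟨c, hloc t _ fun z hz hzy' => ?_, ?_⟩
    · exact key z hz hzy' ▸ Ideal.mem_map_of_mem _ (Ideal.mem_span_singleton_self t)
    · obtain ⟨v, hv, hvc⟩ := hloc (f.stalkMap x c) t fun z hz hzy' =>
        (key z hz hzy').symm ▸ Ideal.mem_map_of_mem _ (Ideal.mem_span_singleton_self _)
      exact ⟨v, hv, by rw [map_mul]; exact hvc⟩
  have hareg : a ∈ nonZeroDivisors (Y.presheaf.stalk (f x)) := by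
    haveI := Module.FaithfullyFlat.of_flat_of_isLocalHom (A := Y.presheaf.stalk (f x)) (B := X.presheaf.stalk x)
    refine mem_nonZeroDivisors_iff_right.2 fun r hr => ?_
    have h4 := regular_of_span_eq ha ht
    have h5 := mem_nonZeroDivisors_iff_right.1 h4 (algebraMap _ _ r) (by rw [← map_mul, hr, map_zero])
    exact FaithfulSMul.algebraMap_injective (Y.presheaf.stalk (f x)) (X.presheaf.stalk x) (h5.trans (map_zero _).symm)
  obtain ⟨V, hy, a₀, rfl⟩ := TopCat.Presheaf.exists_germ_eq Y.presheaf a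
  exact ⟨V, hy, a₀, hareg, by rw [hJt, ha, span_app, Ideal.map_span, Set.image_singleton]; rfl⟩

/-- The depth two step. -/
theorem goodAt_of_gen (hJ : BlowUp.IsEffCartierIdeal J) (y : Y)
    (hd : 2 ≤ LocCoh.depth (Y.presheaf.stalk y) (Y.presheaf.stalk y))
    (hgen : ∀ y', y' ⤳ y → y' ≠ y → GoodAt f J y') : GoodAt f J y := by
  obtain ⟨x₀, rfl⟩ := f.surjective y
  obtain ⟨V, hy, a, ha, h₀⟩ := exists_gen_stalk f J hJ x₀ hd hgen
  refine ⟨V, hy, a, ha, fun x hx => ?_⟩
  have hex : ∀ (y : Y), f x = y → 2 ≤ LocCoh.depth (Y.presheaf.stalk y) (Y.presheaf.stalk y) →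
      (∀ y', y' ⤳ y → y' ≠ y → GoodAt f J y') → ∃ (W : Y.Opens) (hW : y ∈ W) (b : Γ(Y, W)),
        Y.presheaf.germ W y hW b ∈ nonZeroDivisors (Y.presheaf.stalk y) ∧
        ∀ (h : f x ∈ W), stI J x = Ideal.span {X.presheaf.germ (f ⁻¹ᵁ W) x h (f.app W b)} := by
    rintro _ rfl hd hgen
    obtain ⟨W, hW, b, hb, hb'⟩ := exists_gen_stalk f J hJ x hd hgen
    exact ⟨W, hW, b, hb, fun _ => hb'⟩
  obtain ⟨W, hW, b, hb, hb'⟩ := hex _ hx hd hgen
  refine (hb' (show f x ∈ W by rw [hx]; exact hW)).trans (span_app_eq f x hx hW hy b a ?_)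
  refine span_eq_of_punctured hd hb ha fun y' hy' hne => ?_
  rw [TopCat.Presheaf.germ_stalkSpecializes_apply Y.presheaf hW hy' b,
    TopCat.Presheaf.germ_stalkSpecializes_apply Y.presheaf hy hy' a]
  obtain ⟨z, hz, hzy⟩ := exists_lift f (x := x) (y' := y') (hx.symm ▸ hy')
  obtain ⟨z₀, hz₀, hz₀y⟩ := exists_lift f (x := x₀) (y' := y') hy'
  have e₀ := ((hgen y' hy' hne).indep f J (hy'.mem_open V.2 hy) a z₀ hz₀y (stI_germ_gen f J hz₀ hy a h₀)).2 z hzy
  exact span_eq_of_app_eq f z hzy (hy'.mem_open W.2 hW) (hy'.mem_open V.2 hy) b a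
    ((stI_germ_gen f J hz (show f x ∈ W by rw [hx]; exact hW) b (hb' _)).symm.trans e₀)

/-- Good everywhere from good at depth at most one. -/
theorem goodAt_all (hJ : BlowUp.IsEffCartierIdeal J)
    (h : ∀ y : Y, LocCoh.depth (Y.presheaf.stalk y) (Y.presheaf.stalk y) ≤ 1 → GoodAt f J y) (y : Y) :
    GoodAt f J y := by
  suffices H : ∀ (n : ℕ∞) (y' : Y) (hy' : y' ⤳ y), (CDiv6.primeOf hy').asIdeal.height = n → GoodAt f J y' from
    H _ y specializes_rfl rfl
  intro n
  induction n using WellFoundedLT.induction with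
  | ind n ih =>
    intro y' hy' hn
    by_cases hd : LocCoh.depth (Y.presheaf.stalk y') (Y.presheaf.stalk y') ≤ 1
    · exact h y' hd
    refine goodAt_of_gen f J hJ y' (Order.add_one_le_of_lt (not_le.1 hd)) fun y'' hy'' hne => ?_
    refine ih _ ?_ y'' (hy''.trans hy') rfl
    have hlt : (CDiv6.primeOf (hy''.trans hy')).asIdeal < (CDiv6.primeOf hy').asIdeal :=
      lt_of_le_of_ne ((H23.StalkPrimes.primeOf_le_iff hy' (hy''.trans hy')).2 hy'') fun e =>
        hne (H23.StalkPrimes.primeOf_inj (hy''.trans hy') hy' e)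
    exact hn ▸ Ideal.height_strict_mono_of_isPrime_of_isPrime hlt

variable [IsLocallyNoetherian X]

theorem exists_descent (hf : QuasiCompact f ∨ IsOpenMap f) (hJ : BlowUp.IsEffCartierIdeal J)
    (h : ∀ y : Y, LocCoh.depth (Y.presheaf.stalk y) (Y.presheaf.stalk y) ≤ 1 → GoodAt f J y) :
    ∃ I : Y.IdealSheafData, BlowUp.IsEffCartierIdeal I ∧ I.comap f = J := by
  have hall := goodAt_all f J hJ h
  have hchoice := hall
  choose V hyV a ha hVa using hchoice
  let g : ∀ y : Y, Y.presheaf.stalk y := fun y => Y.presheaf.germ (V y) y (hyV y) (a y)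
  obtain ⟨I, hI⟩ := exists_ideal_of_germs g fun y => by
    -- the good points for one section
    let G : Set X := {x | ∃ hx : f x ∈ V y, stI J x = Ideal.span {X.presheaf.germ (f ⁻¹ᵁ V y) x hx (f.app (V y) (a y))}}
    have hG : IsOpen G := by
      rw [isOpen_iff_forall_mem_open]
      rintro x ⟨hx, hxG⟩
      obtain ⟨U, hxU, s, -, hs⟩ := hJ x
      let s' : Γ(X, U.1 ⊓ f ⁻¹ᵁ V y) := X.presheaf.map (homOfLE inf_le_left).op s
      let a' : Γ(X, U.1 ⊓ f ⁻¹ᵁ V y) := X.presheaf.map (homOfLE inf_le_right).op (f.app (V y) (a y))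
      have hx' : x ∈ U.1 ⊓ f ⁻¹ᵁ V y := ⟨hxU, hx⟩
      have hst : Ideal.span {X.presheaf.germ _ x hx' s'} = Ideal.span {X.presheaf.germ _ x hx' a'} := by
        simp only [s', a', TopCat.Presheaf.germ_res_apply]
        rw [← hxG, stI_eq J U hxU, hs, Ideal.map_span, Set.image_singleton]
      obtain ⟨c, hc⟩ := Ideal.mem_span_singleton.1 (hst ▸ Ideal.mem_span_singleton_self (X.presheaf.germ _ x hx' s'))
      obtain ⟨d, hd⟩ := Ideal.mem_span_singleton.1 (hst.symm ▸ Ideal.mem_span_singleton_self (X.presheaf.germ _ x hx' a'))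
      obtain ⟨W₁, h₁, c, rfl⟩ := TopCat.Presheaf.exists_germ_eq X.presheaf c
      obtain ⟨W₂, h₂, d, rfl⟩ := TopCat.Presheaf.exists_germ_eq X.presheaf d
      let W := (U.1 ⊓ f ⁻¹ᵁ V y) ⊓ (W₁ ⊓ W₂)
      have hxW : x ∈ W := ⟨hx', h₁, h₂⟩
      obtain ⟨W', hxW', i, j, hW'⟩ := TopCat.Presheaf.germ_eq X.presheaf x hxW hxW
        (X.presheaf.map (homOfLE (inf_le_left : W ≤ _)).op s')
        (X.presheaf.map (homOfLE (inf_le_left : W ≤ _)).op a' * X.presheaf.map (homOfLE (inf_le_right.trans inf_le_left : W ≤ W₁)).op c)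
        (by rw [map_mul, X.presheaf.germ_res_apply _ x hxW, X.presheaf.germ_res_apply _ x hxW, X.presheaf.germ_res_apply _ x hxW]; exact hc)
      obtain ⟨W'', hxW'', i', j', hW''⟩ := TopCat.Presheaf.germ_eq X.presheaf x hxW hxW
        (X.presheaf.map (homOfLE (inf_le_left : W ≤ _)).op a')
        (X.presheaf.map (homOfLE (inf_le_left : W ≤ _)).op s' * X.presheaf.map (homOfLE (inf_le_right.trans inf_le_right : W ≤ W₂)).op d)
        (by rw [map_mul, X.presheaf.germ_res_apply _ x hxW, X.presheaf.germ_res_apply _ x hxW, X.presheaf.germ_res_apply _ x hxW]; exact hd)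
      refine ⟨(W' ⊓ W'' : X.Opens), fun z hz => ⟨(i.le hz.1).1.2, ?_⟩, (W' ⊓ W'').2, hxW', hxW''⟩
      have e1 := congrArg (X.presheaf.germ W' z hz.1) hW'
      have e2 := congrArg (X.presheaf.germ W'' z hz.2) hW''
      rw [X.presheaf.germ_res_apply _ z hz.1, X.presheaf.germ_res_apply _ z hz.1, map_mul, X.presheaf.germ_res_apply _ z, X.presheaf.germ_res_apply _ z, X.presheaf.germ_res_apply _ z] at e1
      rw [X.presheaf.germ_res_apply _ z hz.2, X.presheaf.germ_res_apply _ z hz.2, map_mul, X.presheaf.germ_res_apply _ z, X.presheaf.germ_res_apply _ z, X.presheaf.germ_res_apply _ z] at e2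
      simp only [s', a', TopCat.Presheaf.germ_res_apply] at e1 e2
      rw [stI_eq J U (i.le hz.1).1.1, hs, Ideal.map_span, Set.image_singleton]
      exact le_antisymm ((Ideal.span_singleton_le_iff_mem _).2 (Ideal.mem_span_singleton.2 ⟨_, e1⟩))
        ((Ideal.span_singleton_le_iff_mem _).2 (Ideal.mem_span_singleton.2 ⟨_, e2⟩))
    have hsat : f ⁻¹' (f '' G) = G := by
      refine Set.Subset.antisymm ?_ (Set.subset_preimage_image f G)
      rintro x ⟨z, ⟨hz, hzG⟩, hzx⟩
      have hxV : f x ∈ V y := hzx ▸ hz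
      exact ⟨hxV, ((hall (f x)).indep f J hxV (a y) z hzx hzG).2 x rfl⟩
    have hopen : IsOpen (f '' G) := by
      rcases hf with hqc | hop
      · rw [← (Flat.isQuotientMap_of_surjective f).isOpen_preimage, hsat]
        exact hG
      · exact hop G hG
    obtain ⟨x, hx⟩ := f.surjective y
    refine ⟨⟨f '' G, hopen⟩ ⊓ V y, ⟨⟨x, ⟨show f x ∈ V y by rw [hx]; exact hyV y, hVa y x hx⟩, hx⟩, hyV y⟩,
      Y.presheaf.map (homOfLE inf_le_right).op (a y), fun z hz => ?_⟩
    obtain ⟨x', ⟨hx'V, hx'G⟩, hx'z⟩ := hz.1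
    rw [TopCat.Presheaf.germ_res_apply]
    exact span_eq_of_app_eq f x' hx'z (hyV z) hz.2 (a z) (a y) ((hVa z x' hx'z).symm.trans hx'G)
  refine ⟨I, isEffCartier_of_stI I fun y _ => ⟨g y, ha y, hI y⟩, ext_stI fun x => ?_⟩
  rw [stI_comap, hI, hVa (f x) x rfl, span_app]

end Groth.Agent.Div57.Desc
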