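import Groth.Agent.Div57.Desc.Local
import Groth.Agent.Div57.KQuotPts
import Groth.Agent.DivX.MeroMod

/-!
# Numerators and denominators of divisors
-/

universe u

set_option autoImplicit false
set_option backward.isDefEq.respectTransparency false
set_option backward.isDefEq.respectTransparency.types false
set_option linter.style.haveILetI false

open CategoryTheory AlgebraicGeometry TopologicalSpace Opposite Groth.Agent

namespace Groth.Agent.Div57.Desc

variable {X : Scheme.{u}} (D : Mero.Divisor X)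

local notation "am" x => algebraMap (X.presheaf.stalk x) (Mero.KStalk X x)

/-- The divisor is the class of `A / B` at `x`. -/
def Rel (x : X) (A B : X.presheaf.stalk x) : Prop :=
  ∃ g : (Mero.KStalk X x)ˣ, D.1 x = QuotientGroup.mk g ∧ (g : Mero.KStalk X x) * (am x) B = (am x) A

theorem isUnit_am [IsLocallyNoetherian X] {x : X} {B : X.presheaf.stalk x}
    (hB : B ∈ nonZeroDivisors (X.presheaf.stalk x)) : IsUnit ((am x) B) :=
  IsLocalization.map_units (Mero.KStalk X x)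
    (⟨B, (KQuot.regStalk_eq KQuot.wfin_of_isLocallyNoetherian x).symm ▸ hB⟩ : Mero.regStalk X x)

theorem am_unit_injective [IsLocallyNoetherian X] {x : X} {A : X.presheaf.stalk x}
    (hA : IsUnit ((am x) A)) : A ∈ nonZeroDivisors (X.presheaf.stalk x) :=
  mem_nonZeroDivisors_iff_right.2 fun c hc => Mero.algebraMap_KStalk_injective x (by
    have h1 := congrArg (am x) hc
    rw [map_mul, map_zero] at h1
    exact (hA.mul_left_eq_zero.1 h1).trans (map_zero _).symm)

variable {D}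

theorem Rel.regular [IsLocallyNoetherian X] {x : X} {A B : X.presheaf.stalk x} (h : Rel D x A B)
    (hB : B ∈ nonZeroDivisors (X.presheaf.stalk x)) : A ∈ nonZeroDivisors (X.presheaf.stalk x) := by
  obtain ⟨g, -, hg⟩ := h
  exact am_unit_injective (hg ▸ g.isUnit.mul (isUnit_am hB))

theorem Rel.class {x : X} {g g' : (Mero.KStalk X x)ˣ}
    (h : (QuotientGroup.mk g : Mero.Germ X x) = QuotientGroup.mk g') :
    ∃ c : (X.presheaf.stalk x)ˣ, (g' : Mero.KStalk X x) = g * (am x) (c : X.presheaf.stalk x) := by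
  obtain ⟨c, hc⟩ := MonoidHom.mem_range.1 (QuotientGroup.eq.1 h)
  refine ⟨c, ?_⟩
  rw [show g' = g * Units.map (am x).toMonoidHom c by rw [hc, mul_inv_cancel_left]]
  rfl

theorem class_eq {x : X} {g g' : (Mero.KStalk X x)ˣ} (c : (X.presheaf.stalk x)ˣ)
    (h : (g' : Mero.KStalk X x) = g * (am x) (c : X.presheaf.stalk x)) :
    (QuotientGroup.mk g : Mero.Germ X x) = QuotientGroup.mk g' := by
  refine QuotientGroup.eq.2 (MonoidHom.mem_range.2 ⟨c, ?_⟩)
  rw [eq_inv_mul_iff_mul_eq]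
  exact Units.ext h.symm

theorem exists_unit_of_span_eq {R : Type*} [CommRing R] {a b : R} (hb : b ∈ nonZeroDivisors R)
    (h : Ideal.span {a} = Ideal.span {b}) : ∃ c : Rˣ, a = b * c := by
  obtain ⟨p, hp⟩ := Ideal.mem_span_singleton.1 (h ▸ Ideal.mem_span_singleton_self a)
  obtain ⟨q, hq⟩ := Ideal.mem_span_singleton.1 (h.symm ▸ Ideal.mem_span_singleton_self b)
  have h1 : p * q = 1 := (mul_cancel_left_mem_nonZeroDivisors hb).1 (by rw [← mul_assoc, ← hp, ← hq, mul_one])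
  exact ⟨⟨p, q, h1, by rw [mul_comm, h1]⟩, hp⟩

theorem Rel.span_eq {x : X} {A B A' B' : X.presheaf.stalk x} (h : Rel D x A B) (h' : Rel D x A' B') :
    Ideal.span {A * B'} = Ideal.span {A' * B} := by
  obtain ⟨g, hD, hg⟩ := h
  obtain ⟨g', hD', hg'⟩ := h'
  obtain ⟨c, hc⟩ := Rel.class (hD.symm.trans hD')
  have : A' * B = A * B' * c := Mero.algebraMap_KStalk_injective x (by
    rw [map_mul, map_mul, map_mul, ← hg, ← hg', hc]
    ring)
  rw [this, Ideal.span_singleton_mul_right_unit c.isUnit]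

theorem Rel.congr [IsLocallyNoetherian X] {x : X} {A B A' B' : X.presheaf.stalk x} (h : Rel D x A B)
    (hB : B ∈ nonZeroDivisors (X.presheaf.stalk x)) (hB' : B' ∈ nonZeroDivisors (X.presheaf.stalk x))
    (he : Ideal.span {A * B'} = Ideal.span {A' * B}) : Rel D x A' B' := by
  obtain ⟨c, hc⟩ := exists_unit_of_span_eq (mul_mem (h.regular hB) hB') he.symm
  obtain ⟨g, hD, hg⟩ := h
  refine ⟨g * Units.map (am x).toMonoidHom c, hD.trans (class_eq c rfl), (isUnit_am hB).mul_left_injective ?_⟩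
  show ((g : Mero.KStalk X x) * (am x) (c : X.presheaf.stalk x)) * (am x) B' * (am x) B = (am x) A' * (am x) B
  rw [← map_mul (am x) A' B, hc, map_mul, map_mul, ← hg]
  ring

theorem rel_one_one {x : X} (h : D.1 x = 1) : Rel D x 1 1 :=
  ⟨1, h, by rw [map_one, Units.val_one, mul_one]⟩

variable (D)

/-- Every germ of a divisor has a numerator and a denominator. -/
theorem exists_rel [IsLocallyNoetherian X] (x : X) :
    ∃ A B, B ∈ nonZeroDivisors (X.presheaf.stalk x) ∧ Rel D x A B := by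
  obtain ⟨g, hg⟩ := DivX.exists_rep D x
  obtain ⟨⟨A, B⟩, h⟩ := IsLocalization.surj (Mero.regStalk X x) (g : Mero.KStalk X x)
  exact ⟨A, B, Mero.regStalk_le_nonZeroDivisors x B.2, g, hg, h⟩

variable {D}

/-- A meromorphic function vanishing at a point vanishes near it. -/
theorem exists_nhd_eq_zero {U : X.Opens} (t : Γ(Mero.kmod X, U)) (x : U) (h : t.1 x = 0) :
    ∃ (W : X.Opens) (_ : x.1 ∈ W), ∀ (z : U), z.1 ∈ W → t.1 z = 0 := by
  obtain ⟨V, hxV, i, a, b, hab⟩ := t.2 x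
  have h1 : (LocalizedModule.mk (X.presheaf.germ V x.1 hxV a) (Mero.regGerm ⟨x.1, hxV⟩ b) : Mero.KStalk X x.1) = 0 :=
    (hab ⟨x.1, hxV⟩).symm.trans h
  obtain ⟨⟨s, hs⟩, hsa⟩ := LocalizedModule.mk_eq.1 (h1.trans (LocalizedModule.zero_mk (1 : Mero.regStalk X x.1)).symm)
  simp only [one_smul, smul_zero, Submonoid.smul_def, smul_eq_mul] at hsa
  rw [mul_comm] at hsa
  have h2 : X.presheaf.germ V x.1 hxV a = 0 :=
    mem_nonZeroDivisors_iff_right.1 (Mero.regStalk_le_nonZeroDivisors _ hs) _ hsa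
  obtain ⟨W, hxW, j, k, hW⟩ := TopCat.Presheaf.germ_eq (V := V) X.presheaf x.1 hxV hxV a 0 (h2.trans (map_zero _).symm)
  refine ⟨W, hxW, fun z hz => ?_⟩
  have h3 := congrArg (X.presheaf.germ W z.1 hz) hW
  rw [TopCat.Presheaf.germ_res_apply, TopCat.Presheaf.germ_res_apply, map_zero] at h3
  refine (hab ⟨z.1, j.le hz⟩).trans ?_
  show LocalizedModule.mk (X.presheaf.germ V z.1 (j.le hz) a) _ = 0
  rw [h3, LocalizedModule.zero_mk]

/-- Numerators and denominators are valid near a point. -/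
theorem Rel.nhd {x : X} {U : X.Opens} (hx : x ∈ U) (A B : Γ(X, U))
    (h : Rel D x (X.presheaf.germ U x hx A) (X.presheaf.germ U x hx B)) :
    ∃ (W : X.Opens) (_ : x ∈ W) (hWU : W ≤ U), ∀ (z : X) (hz : z ∈ W),
      Rel D z (X.presheaf.germ U z (hWU hz) A) (X.presheaf.germ U z (hWU hz) B) := by
  obtain ⟨g, hD, hg⟩ := h
  obtain ⟨U₁, hxU₁, F, hF⟩ := D.2 x
  obtain ⟨c, hc⟩ := Rel.class ((hF ⟨x, hxU₁⟩).symm.trans hD)
  obtain ⟨U₂, hxU₂, c₂, hc₂⟩ := TopCat.Presheaf.exists_germ_eq X.presheaf (c : X.presheaf.stalk x)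
  let V : X.Opens := (U ⊓ U₁) ⊓ X.basicOpen c₂
  have hxV : x ∈ V := ⟨⟨hx, hxU₁⟩, (X.mem_basicOpen c₂ x hxU₂).2 (hc₂ ▸ c.isUnit)⟩
  let t : Γ(Mero.kmod X, V) :=
    DivX.kRes (inf_le_left.trans inf_le_right : V ≤ U₁) (F : Γ(Mero.kmod X, U₁)) *
        Mero.toK X V (AModX.resR (inf_le_right.trans (X.basicOpen_le c₂) : V ≤ U₂) c₂ *
          AModX.resR (inf_le_left.trans inf_le_left : V ≤ U) B) -
      Mero.toK X V (AModX.resR (inf_le_left.trans inf_le_left : V ≤ U) A)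
  have hval : ∀ (z : X) (hz : z ∈ V), t.1 ⟨z, hz⟩ =
      (F : Γ(Mero.kmod X, U₁)).1 ⟨z, hz.1.2⟩ * ((am z) (X.presheaf.germ U₂ z (X.basicOpen_le c₂ hz.2) c₂) *
        (am z) (X.presheaf.germ U z hz.1.1 B)) - (am z) (X.presheaf.germ U z hz.1.1 A) := by
    intro z hz
    show (_ * _ : Mero.KStalk X z) - _ = _
    rw [DivX.kRes_apply, DivX.toK_val, DivX.toK_val, map_mul, ← map_mul (am z)]
    simp only [AModX.resR]
    rw [TopCat.Presheaf.germ_res_apply, TopCat.Presheaf.germ_res_apply, TopCat.Presheaf.germ_res_apply]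
  have h0 : t.1 ⟨x, hxV⟩ = 0 := by
    rw [hval x hxV, hc₂, ← mul_assoc, sub_eq_zero]
    exact (congrArg (· * _) hc.symm).trans hg
  obtain ⟨W, hxW, hW⟩ := exists_nhd_eq_zero t ⟨x, hxV⟩ h0
  refine ⟨W ⊓ V, ⟨hxW, hxV⟩, fun z hz => hz.2.1.1, fun z hz => ?_⟩
  have h1 := hW ⟨z, hz.2⟩ hz.1
  rw [hval z hz.2, sub_eq_zero, ← mul_assoc] at h1
  have hu := (X.mem_basicOpen c₂ z (X.basicOpen_le c₂ hz.2.2)).1 hz.2.2
  refine ⟨Units.map (Mero.evalK X U₁ ⟨z, hz.2.1.2⟩).toMonoidHom F * Units.map (am z).toMonoidHom hu.unit,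
    (hF ⟨z, hz.2.1.2⟩).trans (class_eq hu.unit rfl), h1⟩

/-- Numerators and denominators specialize. -/
theorem Rel.spec {x z : X} (hz : z ⤳ x) {A B : X.presheaf.stalk x} (h : Rel D x A B) :
    Rel D z (X.presheaf.stalkSpecializes hz A) (X.presheaf.stalkSpecializes hz B) := by
  obtain ⟨U₁, h₁, a, rfl⟩ := TopCat.Presheaf.exists_germ_eq X.presheaf A
  obtain ⟨U₂, h₂, b, rfl⟩ := TopCat.Presheaf.exists_germ_eq X.presheaf B
  obtain ⟨W, hxW, hWU, hW⟩ := Rel.nhd (D := D) (x := x) (U := U₁ ⊓ U₂) ⟨h₁, h₂⟩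
    (AModX.resR inf_le_left a) (AModX.resR inf_le_right b) (by
      simp only [AModX.resR]
      rw [TopCat.Presheaf.germ_res_apply, TopCat.Presheaf.germ_res_apply]; exact h)
  have h3 := hW z (hz.mem_open W.2 hxW)
  simp only [AModX.resR] at h3
  rw [TopCat.Presheaf.germ_res_apply, TopCat.Presheaf.germ_res_apply] at h3
  rw [TopCat.Presheaf.germ_stalkSpecializes_apply, TopCat.Presheaf.germ_stalkSpecializes_apply]
  exact h3

end Groth.Agent.Div57.Desc
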