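import Groth.Agent.Div57.Desc.RelFrame

/-!
# Descent of invertible modules
-/

universe u

set_option autoImplicit false
set_option backward.isDefEq.respectTransparency false
set_option backward.isDefEq.respectTransparency.types false
set_option linter.style.haveILetI false
set_option linter.unusedSectionVars false

open CategoryTheory AlgebraicGeometry TopologicalSpace IsLocalRing Groth.Agent
open Groth.Agent.InvX Groth.Agent.Div57.KQuot

namespace Groth.Agent.Div57.Desc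

/-- A quotient of two regular functions as a meromorphic unit. -/
noncomputable def fracU {X : Scheme.{u}} {U : X.Opens} (a b : Γ(X, U)) (ha : a ∈ Mero.regSub X U)
    (hb : b ∈ Mero.regSub X U) : (Γ(Mero.kmod X, U))ˣ :=
  (isUnit_toK ⟨a, ha⟩).unit * (isUnit_toK ⟨b, hb⟩).unit⁻¹

theorem fracU_val {X : Scheme.{u}} {U : X.Opens} (a b : Γ(X, U)) (ha : a ∈ Mero.regSub X U)
    (hb : b ∈ Mero.regSub X U) (z : U) :
    (fracU a b ha hb : Γ(Mero.kmod X, U)).1 z *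
        algebraMap (X.presheaf.stalk z.1) (Mero.KStalk X z.1) (X.presheaf.germ U z.1 z.2 b) =
      algebraMap (X.presheaf.stalk z.1) (Mero.KStalk X z.1) (X.presheaf.germ U z.1 z.2 a) := by
  have h : (fracU a b ha hb : Γ(Mero.kmod X, U)) * Mero.toK X U b = Mero.toK X U a := by
    rw [fracU, Units.val_mul, mul_assoc, IsUnit.val_inv_mul (isUnit_toK ⟨b, hb⟩), mul_one]
    rfl
  exact congrArg (fun k : Γ(Mero.kmod X, U) => k.1 z) h

theorem class_eq_of_span {X : Scheme.{u}} [IsLocallyNoetherian X] {x : X} {g g' : (Mero.KStalk X x)ˣ}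
    {a b a' b' : X.presheaf.stalk x} (hb : b ∈ nonZeroDivisors (X.presheaf.stalk x))
    (hb' : b' ∈ nonZeroDivisors (X.presheaf.stalk x)) (ha : a ∈ nonZeroDivisors (X.presheaf.stalk x))
    (h : (g : Mero.KStalk X x) * algebraMap _ _ b = algebraMap (X.presheaf.stalk x) _ a)
    (h' : (g' : Mero.KStalk X x) * algebraMap _ _ b' = algebraMap (X.presheaf.stalk x) _ a')
    (he : Ideal.span {a * b'} = Ideal.span {a' * b}) :
    (QuotientGroup.mk g : Mero.Germ X x) = QuotientGroup.mk g' := by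
  obtain ⟨c, hc⟩ := exists_unit_of_span_eq (mul_mem ha hb') he.symm
  refine class_eq c ((isUnit_am hb').mul_left_injective ((isUnit_am hb).mul_left_injective ?_))
  show (g' : Mero.KStalk X x) * _ * _ = (g : Mero.KStalk X x) * _ * _ * _
  rw [h', ← map_mul, hc, map_mul, map_mul, ← h]
  ring

/-- Quotients related by a function. -/
theorem val_eq_iff {X : Scheme.{u}} [IsLocallyNoetherian X] {x : X} {g g' : Mero.KStalk X x}
    {a b a' b' r : X.presheaf.stalk x} (hb : b ∈ nonZeroDivisors (X.presheaf.stalk x))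
    (hb' : b' ∈ nonZeroDivisors (X.presheaf.stalk x))
    (h : g * algebraMap _ _ b = algebraMap (X.presheaf.stalk x) _ a)
    (h' : g' * algebraMap _ _ b' = algebraMap (X.presheaf.stalk x) _ a') :
    g = algebraMap (X.presheaf.stalk x) _ r * g' ↔ a * b' = r * a' * b := by
  constructor
  · intro e
    apply Mero.algebraMap_KStalk_injective x
    rw [map_mul, map_mul, map_mul, ← h, ← h', e]
    ring
  · intro e
    refine (isUnit_am hb').mul_left_injective ((isUnit_am hb).mul_left_injective ?_)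
    show g * _ * _ = algebraMap _ _ r * g' * _ * _
    rw [mul_right_comm g, h, mul_assoc (algebraMap _ _ r), h', ← map_mul, ← map_mul, ← map_mul, e]

variable {X Y : Scheme.{u}} {f : X ⟶ Y} [Flat f] [Surjective f] [IsLocallyNoetherian X]
  [IsLocallyNoetherian Y] {D : Mero.Divisor X}

theorem app_mem_regSub {U : Y.Opens} {a : Γ(Y, U)} (ha : a ∈ Mero.regSub Y U) :
    f.app U a ∈ Mero.regSub X (f ⁻¹ᵁ U) := fun x => by
  have := pull_regular f (x := x.1) specializes_rfl (ha ⟨f x.1, x.2⟩)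
  rwa [pull_germ] at this

/-- Fractions defined over the base on all fibres define a divisor on the base. -/
theorem exists_base_data (hY : Pi1.IsNormalScheme Y) (hf : QuasiCompact f ∨ IsOpenMap f) (hall : ∀ y, GoodD f D y) :
    ∃ (W : Y → Y.Opens) (_ : ∀ y, y ∈ W y) (A B : ∀ y, Γ(Y, W y)) (_ : ∀ y, A y ∈ Mero.regSub Y (W y))
      (_ : ∀ y, B y ∈ Mero.regSub Y (W y)), ∀ (y : Y) (x : X) (hx : f x ∈ W y),
        Rel D x (X.presheaf.germ (f ⁻¹ᵁ W y) x hx (f.app (W y) (A y)))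
          (X.presheaf.germ (f ⁻¹ᵁ W y) x hx (f.app (W y) (B y))) := by
  suffices H : ∀ y, ∃ (W : Y.Opens) (_ : y ∈ W) (A B : Γ(Y, W)) (_ : A ∈ Mero.regSub Y W)
      (_ : B ∈ Mero.regSub Y W), ∀ (x : X) (hx : f x ∈ W),
        Rel D x (X.presheaf.germ (f ⁻¹ᵁ W) x hx (f.app W A)) (X.presheaf.germ (f ⁻¹ᵁ W) x hx (f.app W B)) by
    choose W hW A B hA hB h using H
    exact ⟨W, hW, A, B, hA, hB, h⟩
  intro y
  obtain ⟨a, b, ha, hb, hab⟩ := hall y
  obtain ⟨U₁, h₁, A₁, rfl⟩ := TopCat.Presheaf.exists_germ_eq Y.presheaf a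
  obtain ⟨U₂, h₂, B₂, rfl⟩ := TopCat.Presheaf.exists_germ_eq Y.presheaf b
  obtain ⟨V, hyV, hVU, hWA⟩ := exists_open_WA (wfin_of_isLocallyNoetherian (X := Y)) (U := U₁ ⊓ U₂) (x := y) ⟨h₁, h₂⟩
  let A := AModX.resR (hVU.trans inf_le_left) A₁
  let B := AModX.resR (hVU.trans inf_le_right) B₂
  have gA : ∀ (z : Y) (hz : z ∈ V), Y.presheaf.germ V z hz A = Y.presheaf.germ U₁ z (hVU hz).1 A₁ := fun z hz => by
    simp only [A, AModX.resR, TopCat.Presheaf.germ_res_apply]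
  have gB : ∀ (z : Y) (hz : z ∈ V), Y.presheaf.germ V z hz B = Y.presheaf.germ U₂ z (hVU hz).2 B₂ := fun z hz => by
    simp only [B, AModX.resR, TopCat.Presheaf.germ_res_apply]
  have hreg : ∀ (C : Γ(Y, V)), Y.presheaf.germ V y hyV C ∈ nonZeroDivisors _ → C ∈ Mero.regSub Y V := fun C hC =>
    mem_regSub fun z hz hza => by
      rw [← TopCat.Presheaf.germ_stalkSpecializes_apply Y.presheaf hyV (hWA z hz hza) C]
      exact unit_of_maximal hY _ (WA.maximal_of_normal hY hza) hC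
  have hA : A ∈ Mero.regSub Y V := hreg A (by rw [gA]; exact ha)
  have hB : B ∈ Mero.regSub Y V := hreg B (by rw [gB]; exact hb)
  let G : Set X := {x | ∃ hx : f x ∈ V,
    Rel D x (X.presheaf.germ (f ⁻¹ᵁ V) x hx (f.app V A)) (X.presheaf.germ (f ⁻¹ᵁ V) x hx (f.app V B))}
  have hG : IsOpen G := by
    rw [isOpen_iff_forall_mem_open]
    rintro x ⟨hx, hxG⟩
    obtain ⟨W, hxW, hWle, hW⟩ := Rel.nhd (U := f ⁻¹ᵁ V) hx _ _ hxG
    exact ⟨W, fun z hz => ⟨hWle hz, hW z hz⟩, W.2, hxW⟩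
  have hfull : ∀ (x x' : X), f x' = f x → x ∈ G → x' ∈ G := by
    rintro x x' he ⟨hx, hxG⟩
    refine ⟨he ▸ hx, ?_⟩
    rw [← pull_germ f (specializes_of_eq he) hx A, ← pull_germ f (specializes_of_eq he) hx B]
    refine (hall (f x)).indep (hB ⟨f x, hx⟩) (x₀ := x) rfl ?_ x' he
    rw [pull_germ, pull_germ]
    exact hxG
  have hopen : IsOpen (f '' G) := by
    rcases hf with hqc | hop
    · rw [← (Flat.isQuotientMap_of_surjective f).isOpen_preimage,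
        show f ⁻¹' (f '' G) = G from Set.Subset.antisymm
          (fun x ⟨x', hx', e⟩ => hfull x' x e.symm hx') (Set.subset_preimage_image f G)]
      exact hG
    · exact hop G hG
  obtain ⟨x₀, hx₀⟩ := f.surjective y
  have hyG : y ∈ f '' G := ⟨x₀, ⟨by rw [hx₀]; exact hyV, by
    have h := hab x₀ hx₀
    rw [← gA y hyV, ← gB y hyV, pull_germ, pull_germ] at h
    exact h⟩, hx₀⟩
  let W : Y.Opens := ⟨f '' G, hopen⟩ ⊓ V
  have hWV : W ≤ V := inf_le_right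
  refine ⟨W, ⟨hyG, hyV⟩, AModX.resR hWV A, AModX.resR hWV B, Mero.regSub_res _ hA, Mero.regSub_res _ hB,
    fun x hx => ?_⟩
  obtain ⟨x', hx', e⟩ := hx.1
  obtain ⟨hxV, h⟩ := hfull x' x e.symm hx'
  rw [← pull_germ f specializes_rfl (show f x ∈ W from hx), ← pull_germ f specializes_rfl (show f x ∈ W from hx)]
  simp only [AModX.resR, TopCat.Presheaf.germ_res_apply]
  rw [pull_germ, pull_germ]
  exact h

/-- A divisor which is defined over the base on all fibres gives a module from the base. -/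
theorem exists_module (hY : Pi1.IsNormalScheme Y) (hf : QuasiCompact f ∨ IsOpenMap f) (hall : ∀ y, GoodD f D y) :
    ∃ M : Y.Modules, PicF.IsInvertible M ∧
      Nonempty ((Scheme.Modules.pullback f).obj M ≅ Mero.divMod D) := by
  obtain ⟨W, hW, A, B, hA, hB, hrel⟩ := exists_base_data hY hf hall
  let F := fun y => fracU (A y) (B y) (hA y) (hB y)
  have hFv := fun y (z : W y) => fracU_val (A y) (B y) (hA y) (hB y) z
  -- the divisor downstairs
  have hspan : ∀ (a b z : Y) (ha : z ∈ W a) (hb : z ∈ W b),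
      Ideal.span {Y.presheaf.germ (W a) z ha (A a) * Y.presheaf.germ (W b) z hb (B b)} =
        Ideal.span {Y.presheaf.germ (W b) z hb (A b) * Y.presheaf.germ (W a) z ha (B a)} := by
    intro a b z ha hb
    obtain ⟨x, rfl⟩ := f.surjective z
    refine span_eq_of_pull f (x := x) rfl ?_
    rw [map_mul, map_mul, pull_germ, pull_germ, pull_germ, pull_germ]
    exact (hrel a x ha).span_eq (hrel b x hb)
  let E : Mero.Divisor Y := ⟨fun y => Mero.germOf (F y) ⟨y, hW y⟩, fun a => ⟨W a, hW a, F a, fun z =>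
    class_eq_of_span (hB z.1 ⟨z.1, hW z.1⟩) (hB a z) (hA z.1 ⟨z.1, hW z.1⟩) (hFv z.1 ⟨z.1, hW z.1⟩) (hFv a z)
      (hspan z.1 a z.1 (hW _) z.2)⟩⟩
  have hE : ∀ (a : Y) (z : W a), E.1 z.1 = Mero.germOf (F a) z := fun a z =>
    class_eq_of_span (hB z.1 ⟨z.1, hW z.1⟩) (hB a z) (hA z.1 ⟨z.1, hW z.1⟩) (hFv z.1 ⟨z.1, hW z.1⟩) (hFv a z)
      (hspan z.1 a z.1 (hW _) z.2)
  -- upstairs
  let G := fun y => fracU (f.app (W y) (A y)) (f.app (W y) (B y)) (app_mem_regSub (hA y)) (app_mem_regSub (hB y))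
  have hGv := fun y (x : (f ⁻¹ᵁ W y : X.Opens)) =>
    fracU_val (f.app (W y) (A y)) (f.app (W y) (B y)) (app_mem_regSub (f := f) (hA y)) (app_mem_regSub (f := f) (hB y)) x
  have hD : ∀ (a : Y) (x : (f ⁻¹ᵁ W a : X.Opens)), D.1 x.1 = Mero.germOf (G a) x := by
    intro a x
    obtain ⟨g, hg, hgv⟩ := hrel a x.1 x.2
    rw [hg]
    exact class_eq_of_span (app_mem_regSub (hB a) x) (app_mem_regSub (hB a) x) (app_mem_regSub (hA a) x)
      hgv (hGv a x) rfl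
  have hcov : ∀ x : X, ∃ a, x ∈ f ⁻¹ᵁ W a := fun x => ⟨f x, hW (f x)⟩
  let e := fun a => pullElt f (DivX.gen (F a) (hE a))
  have he : ∀ a, IsFrame (e a) := fun a => isFrame_pullElt f (DivX.isFrame_gen (F a) (hE a))
  let n := fun a => DivX.gen (G a) (hD a)
  have hn : ∀ a, IsFrame (n a) := fun a => DivX.isFrame_gen (G a) (hD a)
  have hc : ∀ (a b : Y) (U : X.Opens) (ha : U ≤ f ⁻¹ᵁ W a) (hb : U ≤ f ⁻¹ᵁ W b) (g : Γ(X, U)),
      AModX.res _ hb (e b) = g • AModX.res _ ha (e a) →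
        AModX.res (Mero.divMod D) hb (n b) = g • AModX.res (Mero.divMod D) ha (n a) := by
    intro a b U ha hb g hg
    obtain ⟨r, hr⟩ := (DivX.isFrame_gen (F a) (hE a)).exists_coord (inf_le_left : W a ⊓ W b ≤ W a)
      (AModX.res _ inf_le_right (DivX.gen (F b) (hE b)))
    have hU : U ≤ f ⁻¹ᵁ (W a ⊓ W b) := fun x hx => ⟨ha hx, hb hx⟩
    have h1 := congrArg (fun t => AModX.res _ hU (pullElt f t)) hr
    simp only [H23.EndInv.pullElt_smul, pullElt_res, AModX.res_res, AModX.res_smul] at h1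
    obtain rfl : g = AModX.resR hU (f.app _ r) := (he a).coord_unique ha (hg.symm.trans h1)
    refine Subtype.ext (funext fun x => ?_)
    have hza : f x.1 ∈ W a := ha x.2
    have hzb : f x.1 ∈ W b := hb x.2
    have h2 : (((F b)⁻¹ : (Γ(Mero.kmod Y, W b))ˣ) : Γ(Mero.kmod Y, W b)).1 ⟨f x.1, hzb⟩ =
        algebraMap _ _ (Y.presheaf.germ (W a ⊓ W b) (f x.1) ⟨hza, hzb⟩ r) *
          (((F a)⁻¹ : (Γ(Mero.kmod Y, W a))ˣ) : Γ(Mero.kmod Y, W a)).1 ⟨f x.1, hza⟩ := by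
      rw [← Algebra.smul_def]
      exact congrArg (fun t : Γ(Mero.divMod E, W a ⊓ W b) => t.1 ⟨f x.1, hza, hzb⟩) hr
    have h3 : (F a : Γ(Mero.kmod Y, W a)).1 ⟨f x.1, hza⟩ =
        algebraMap _ _ (Y.presheaf.germ (W a ⊓ W b) (f x.1) ⟨hza, hzb⟩ r) *
          (F b : Γ(Mero.kmod Y, W b)).1 ⟨f x.1, hzb⟩ := by
      have u1 := DivX.unit_val_mul (F b) ⟨f x.1, hzb⟩
      have u2 := DivX.unit_val_mul (F a) ⟨f x.1, hza⟩
      rw [h2] at u1
      linear_combination (algebraMap _ _ (Y.presheaf.germ (W a ⊓ W b) (f x.1) ⟨hza, hzb⟩ r) *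
        (F b : Γ(Mero.kmod Y, W b)).1 ⟨f x.1, hzb⟩) * u2 - (F a : Γ(Mero.kmod Y, W a)).1 ⟨f x.1, hza⟩ * u1
    have h4 := congrArg (f.stalkMap x.1) ((val_eq_iff (hB a ⟨_, hza⟩) (hB b ⟨_, hzb⟩) (hFv a ⟨_, hza⟩) (hFv b ⟨_, hzb⟩)).1 h3)
    simp only [map_mul, Scheme.Hom.germ_stalkMap_apply] at h4
    have h5 := (val_eq_iff (app_mem_regSub (hB a) ⟨x.1, hza⟩) (app_mem_regSub (hB b) ⟨x.1, hzb⟩)
      (hGv a ⟨x.1, hza⟩) (hGv b ⟨x.1, hzb⟩)).2 h4
    show (((G b)⁻¹ : (Γ(Mero.kmod X, f ⁻¹ᵁ W b))ˣ) : Γ(Mero.kmod X, f ⁻¹ᵁ W b)).1 ⟨x.1, hzb⟩ =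
      X.presheaf.germ U x.1 x.2 (AModX.resR hU (f.app _ r)) •
        (((G a)⁻¹ : (Γ(Mero.kmod X, f ⁻¹ᵁ W a))ˣ) : Γ(Mero.kmod X, f ⁻¹ᵁ W a)).1 ⟨x.1, hza⟩
    rw [Algebra.smul_def]
    simp only [AModX.resR, TopCat.Presheaf.germ_res_apply]
    have u1 := DivX.unit_val_mul (G b) ⟨x.1, hzb⟩
    have u2 := DivX.unit_val_mul (G a) ⟨x.1, hza⟩
    linear_combination (((G a)⁻¹ : (Γ(Mero.kmod X, f ⁻¹ᵁ W a))ˣ) : Γ(Mero.kmod X, f ⁻¹ᵁ W a)).1 ⟨x.1, hza⟩ *
        (((G b)⁻¹ : (Γ(Mero.kmod X, f ⁻¹ᵁ W b))ˣ) : Γ(Mero.kmod X, f ⁻¹ᵁ W b)).1 ⟨x.1, hzb⟩ * h5 -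
      (((G b)⁻¹ : (Γ(Mero.kmod X, f ⁻¹ᵁ W b))ˣ) : Γ(Mero.kmod X, f ⁻¹ᵁ W b)).1 ⟨x.1, hzb⟩ * u2 +
      algebraMap _ _ (X.presheaf.germ (f ⁻¹ᵁ (W a ⊓ W b)) x.1 ⟨hza, hzb⟩ (f.app _ r)) *
        (((G a)⁻¹ : (Γ(Mero.kmod X, f ⁻¹ᵁ W a))ˣ) : Γ(Mero.kmod X, f ⁻¹ᵁ W a)).1 ⟨x.1, hza⟩ * u1
  haveI : IsIso (ofFrames (e := e) (n := n) hcov he hc) :=
    DivX.isIso_of_frames _ fun x => ⟨f ⁻¹ᵁ W (f x), hW (f x), e (f x), he _, by rw [ofFrames_app]; exact hn _⟩
  exact ⟨Mero.divMod E, DivX.isInvertible_divMod E, ⟨asIso (ofFrames (e := e) (n := n) hcov he hc)⟩⟩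

/-- Modules trivial on the maximal fibres come from the base. -/
theorem exists_module_descent (hY : Pi1.IsNormalScheme Y) (hf : QuasiCompact f ∨ IsOpenMap f)
    (hfib : ∀ y : Y, ringKrullDim (Y.presheaf.stalk y) = 1 → IsIntegral (f.fiber y))
    (L : X.Modules) (hL : PicF.IsInvertible L)
    (htriv : ∀ η : Y, (∀ z : Y, z ⤳ η → z = η) →
      Nonempty ((Scheme.Modules.pullback (f.fiberι η)).obj L ≅ Coh.structureModule (f.fiber η))) :
    ∃ M : Y.Modules, PicF.IsInvertible M ∧ Nonempty ((Scheme.Modules.pullback f).obj M ≅ L) := by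
  obtain ⟨D, ⟨φ⟩, hD⟩ := exists_divisor_trivial (f := f) hY hL htriv
  obtain ⟨M, hM, ⟨ψ⟩⟩ := exists_module hY hf (fun y => goodD_all hY hD hfib y)
  exact ⟨M, hM, ⟨ψ ≪≫ φ.symm⟩⟩

end Groth.Agent.Div57.Desc
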