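import Groth.Agent.Div57.Desc.RelGood
import Groth.Agent.Div57.KRegMero
import Groth.Agent.H23.EndInv

/-!
# A divisor trivial on the maximal fibres
-/

universe u

set_option autoImplicit false
set_option backward.isDefEq.respectTransparency false
set_option backward.isDefEq.respectTransparency.types false
set_option linter.style.haveILetI false
set_option linter.unusedSectionVars false

open CategoryTheory AlgebraicGeometry TopologicalSpace IsLocalRing Groth.Agent
open Groth.Agent.InvX Groth.Agent.Div57.KQuot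

namespace Groth.Agent.Div57.Desc

variable {X Y : Scheme.{u}} {f : X ⟶ Y} [IsLocallyNoetherian Y] (hY : Pi1.IsNormalScheme Y)

include hY in
theorem eq_zero_of_maximal {y : Y} (hmax : ∀ z : Y, z ⤳ y → z = y) {a : Y.presheaf.stalk y}
    (ha : ¬ IsUnit a) : a = 0 := by
  haveI := (hY y).1
  by_contra h
  refine ha ?_
  have h1 := unit_of_maximal hY (specializes_rfl (x := y)) hmax (mem_nonZeroDivisors_of_ne_zero h)
  rwa [TopCat.Presheaf.stalkSpecializes_refl] at h1

include hY in
theorem WA.maximal_of_normal {y : Y} (hy : WA y) (w : Y) (hw : w ⤳ y) : w = y := by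
  haveI := (hY y).1
  have key : ∀ {z : Y} (hz : z ⤳ y), (CDiv6.primeOf hz).asIdeal = ⊥ := fun hz => by
    refine (Submodule.eq_bot_iff _).2 fun a ha => by_contra fun h => ?_
    exact (CDiv6.mem_primeOf hz a).1 ha
      ((isUnit_of_mem_nonZeroDivisors hy (mem_nonZeroDivisors_of_ne_zero h)).map _)
  exact H23.StalkPrimes.primeOf_inj hw specializes_rfl (by rw [key hw, key specializes_rfl])

variable [Flat f]

include hY in
/-- Weakly associated points lie over maximal points. -/
theorem maximal_of_WA {x : X} (hx : WA x) (w : Y) (hw : w ⤳ f x) : w = f x := by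
  haveI := (hY (f x)).1
  have key : ∀ {z : Y} (hz : z ⤳ f x), (CDiv6.primeOf hz).asIdeal = ⊥ := fun hz => by
    refine (Submodule.eq_bot_iff _).2 fun a ha => by_contra fun h => ?_
    have h1 : IsUnit (f.stalkMap x a) :=
      isUnit_of_mem_nonZeroDivisors hx (pull_refl f x a ▸ pull_regular f _ (mem_nonZeroDivisors_of_ne_zero h))
    exact (CDiv6.mem_primeOf hz a).1 ha ((isUnit_of_map_unit (f.stalkMap x).hom a h1).map _)
  exact H23.StalkPrimes.primeOf_inj hw specializes_rfl (by rw [key hw, key specializes_rfl])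

variable [IsLocallyNoetherian X]

include hY in
theorem bijective_stalkMap_fiberι {η : Y} (hη : ∀ z : Y, z ⤳ η → z = η) (w : f.fiber η) :
    Function.Bijective ((f.fiberι η).stalkMap w) := by
  refine ⟨(RingHom.injective_iff_ker_eq_bot _).2 ?_, (f.fiberι η).stalkMap_surjective w⟩
  rw [FlatDvr.ker_stalkMap_fiberι f w, Ideal.map_eq_bot_iff_le_ker]
  intro a ha
  rw [eq_zero_of_maximal hY (by rw [FlatDvr.fiberι_apply_eq f w]; exact hη) ha]
  exact zero_mem _

/-- The open subsets avoiding the weakly associated points which do not generize a given point. -/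
theorem exists_open_WA {Z : Scheme.{u}} (hfin : WFin Z) {U : Z.Opens} {x : Z} (hx : x ∈ U) :
    ∃ (W : Z.Opens) (_ : x ∈ W), W ≤ U ∧ ∀ z ∈ W, WA z → z ⤳ x := by
  obtain ⟨V, hV, hxV, hVU⟩ := exists_isAffineOpen_mem_and_subset (x := x) (U := U) hx
  refine ⟨V ⊓ ⟨(⋃ z ∈ {z : Z | (z ∈ V ∧ WA z) ∧ ¬ z ⤳ x}, closure ({z} : Set Z))ᶜ,
    (((hfin ⟨V, hV⟩).subset fun z hz => hz.1).isClosed_biUnion fun z _ => isClosed_closure).isOpen_compl⟩,
    ⟨hxV, fun h => ?_⟩, inf_le_left.trans hVU, fun z hz hza => by_contra fun h =>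
      hz.2 (Set.mem_iUnion₂.2 ⟨z, ⟨⟨hz.1, hza⟩, h⟩, subset_closure rfl⟩)⟩
  obtain ⟨z, hz, hzx⟩ := Set.mem_iUnion₂.1 h
  exact hz.2 (specializes_iff_mem_closure.2 hzx)

theorem pullElt_res {A B : Scheme.{u}} (r : A ⟶ B) {M : B.Modules} {U W : B.Opens} (h : W ≤ U) (e : Γ(M, U)) :
    pullElt r (AModX.res M h e) = AModX.res _ (r.preimage_mono h) (pullElt r e) :=
  AModX.app_res ((Scheme.Modules.pullbackPushforwardAdjunction r).unit.app M) h e

variable {L : X.Modules}

include hY in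
/-- A module trivial on the maximal fibres has a divisor trivial there. -/
theorem exists_divisor_trivial (hL : PicF.IsInvertible L)
    (htriv : ∀ η : Y, (∀ z : Y, z ⤳ η → z = η) →
      Nonempty ((Scheme.Modules.pullback (f.fiberι η)).obj L ≅ Coh.structureModule (f.fiber η))) :
    ∃ D : Mero.Divisor X, Nonempty (L ≅ Mero.divMod D) ∧
      ∀ x : X, (∀ y : Y, y ⤳ f x → y = f x) → D.1 x = 1 := by
  let φ := fun η hη => (htriv η hη).some
  let T : ∀ (η : Y) (_ : ∀ z : Y, z ⤳ η → z = η) {U : X.Opens} (_ : Γ(L, U)),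
      Γ(f.fiber η, f.fiberι η ⁻¹ᵁ U) := fun η hη {U} n =>
    (φ η hη).hom.app (f.fiberι η ⁻¹ᵁ U) (pullElt (f.fiberι η) n)
  have Tsmul : ∀ η hη {U : X.Opens} (r : Γ(X, U)) (n : Γ(L, U)),
      T η hη (r • n) = (f.fiberι η).app U r * T η hη n := fun η hη {U} r n => by
    show (φ η hη).hom.app _ (pullElt _ (r • n)) = _
    rw [H23.EndInv.pullElt_smul, Scheme.Modules.Hom.app_smul]
    rfl
  have Tres : ∀ η hη {U W : X.Opens} (h : W ≤ U) (n : Γ(L, U)),
      T η hη (AModX.res L h n) = AModX.resR ((f.fiberι η).preimage_mono h) (T η hη n) := fun η hη {U W} h n => by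
    show (φ η hη).hom.app _ (pullElt _ (AModX.res L h n)) = _
    rw [pullElt_res, AModX.app_res]
    rfl
  let S : Type u := {x : X // ∀ y : Y, y ⤳ f x → y = f x}
  have hloc : ∀ x : S, ∃ (U : X.Opens) (_ : x.1 ∈ U) (n : Γ(L, U)), IsFrame n ∧
      ∀ η hη (w : f.fiber η) (hw : f.fiberι η w ∈ U), WA (f.fiberι η w) →
        (f.fiber η).presheaf.germ _ w hw (T η hη n) = 1 := by
    rintro ⟨x, hx⟩
    obtain ⟨U, hxU, ε, hε⟩ := exists_frame hL x
    obtain ⟨η, hη⟩ : ∃ η, f x = η := ⟨_, rfl⟩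
    obtain ⟨w, hw⟩ := exists_fibre_point f x hη
    subst hw
    replace hx : ∀ y : Y, y ⤳ η → y = η := hη ▸ hx
    obtain ⟨c', hc'⟩ := ((isFrame_pullElt (f.fiberι η) hε).map_iso (φ η hx)).exists_coord le_rfl
      (1 : Γ(f.fiber η, f.fiberι η ⁻¹ᵁ U))
    rw [AModX.res_self] at hc'
    replace hc' : c' * T η hx ε = 1 := hc'.symm
    obtain ⟨C, hC⟩ := (f.fiberι η).stalkMap_surjective w ((f.fiber η).presheaf.germ _ w hxU c')
    have hCu : IsUnit C := by
      refine isUnit_of_map_unit ((f.fiberι η).stalkMap w).hom C ?_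
      rw [show ((f.fiberι η).stalkMap w).hom C = _ from hC]
      exact (IsUnit.of_mul_eq_one _ hc').map _
    obtain ⟨U₁, hxU₁, c₁, rfl⟩ := TopCat.Presheaf.exists_germ_eq X.presheaf C
    let U' : X.Opens := U ⊓ X.basicOpen c₁
    have hxU' : f.fiberι η w ∈ U' := ⟨hxU, (X.mem_basicOpen c₁ _ hxU₁).2 hCu⟩
    let n : Γ(L, U') := AModX.resR (inf_le_right.trans (X.basicOpen_le c₁) : U' ≤ U₁) c₁ •
      AModX.res L (inf_le_left : U' ≤ U) ε
    have hn : IsFrame n := (hε.res _).isUnit_smul (AModX.isUnit_resR _ _ inf_le_right)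
    have hgerm : (f.fiber η).presheaf.germ _ w hxU' (T η hx n) = 1 := by
      show (f.fiber η).presheaf.germ _ w hxU' (T η hx (_ • _)) = 1
      rw [Tsmul η hx, Tres η hx, map_mul, ← Scheme.Hom.germ_stalkMap_apply]
      simp only [AModX.resR]
      rw [TopCat.Presheaf.germ_res_apply, TopCat.Presheaf.germ_res_apply, hC, ← map_mul, hc', map_one]
    obtain ⟨W', hwW', i, j, hW'⟩ := TopCat.Presheaf.germ_eq (V := f.fiberι η ⁻¹ᵁ U') (f.fiber η).presheaf w hxU' hxU'
      (T η hx n) 1 (hgerm.trans (map_one _).symm)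
    obtain ⟨U'', hxU'', hle, hWA⟩ := exists_open_WA (wfin_of_isLocallyNoetherian (X := X)) hxU'
    refine ⟨U'', hxU'', AModX.res L hle n, hn.res _, fun η' hη' w' hw' hwa => ?_⟩
    have hsp : f.fiberι η' w' ⤳ f.fiberι η w := hWA _ hw' hwa
    obtain rfl : η' = η := by
      have h1 : f (f.fiberι η' w') ⤳ η := hη ▸ hsp.map f.continuous
      rw [FlatDvr.fiberι_apply_eq] at h1
      exact hx η' h1
    have hw'W : w' ∈ W' := ((f.fiberι η').isEmbedding.isInducing.specializes_iff.1 hsp).mem_open W'.2 hwW'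
    rw [Tres η' hη']
    simp only [AModX.resR]
    rw [TopCat.Presheaf.germ_res_apply]
    have h2 := congrArg ((f.fiber η').presheaf.germ W' w' hw'W) hW'
    rw [map_one, TopCat.Presheaf.germ_res_apply] at h2
    exact h2.trans (map_one _)
  choose U hxU n hn hT using hloc
  obtain ⟨e₀, he₀, -⟩ := AModX.existsUnique_glue (M := L) (V := iSup U) U (fun x => le_iSup U x)
    (fun p hp => Opens.mem_iSup.1 hp) n fun a b => by
      obtain ⟨r, hr⟩ := (hn a).exists_coord (inf_le_left : U a ⊓ U b ≤ U a) (AModX.res L inf_le_right (n b))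
      have hr1 : r - 1 = 0 := eq_zero_of_WA _ fun z hz hza => by
        rw [map_sub, map_one, sub_eq_zero]
        have hmax : ∀ y, y ⤳ f z → y = f z := maximal_of_WA (f := f) hY hza
        obtain ⟨η, hη⟩ : ∃ η, f z = η := ⟨_, rfl⟩
        rw [hη] at hmax
        obtain ⟨w, hw⟩ := exists_fibre_point f z hη
        subst hw
        refine (bijective_stalkMap_fiberι hY hmax w).1 ?_
        have h1 := congrArg (fun t => (f.fiber η).presheaf.germ _ w (show w ∈ f.fiberι η ⁻¹ᵁ (U a ⊓ U b) from hz)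
          (T η hmax t)) hr
        simp only [Tsmul, Tres, map_mul, AModX.resR, TopCat.Presheaf.germ_res_apply] at h1
        rw [hT b η hmax w hz.2 hza, hT a η hmax w hz.1 hza, mul_one] at h1
        rw [map_one, Scheme.Hom.germ_stalkMap_apply]
        exact h1.symm
      rw [hr, sub_eq_zero.1 hr1, one_smul]
  have he₀f : IsFrame e₀ := isFrame_of_germ fun p hp => by
    obtain ⟨x, hpx⟩ := Opens.mem_iSup.1 hp
    have h1 := congrArg (L.presheaf.germ (U x) p hpx) (he₀ x)
    rw [germ_res'] at h1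
    rw [h1]
    exact (hn x).germ_bijective hpx
  have hO : ∀ x : X, (∀ y : Y, y ⤳ f x → y = f x) → x ∈ iSup U := fun x hx =>
    Opens.mem_iSup.2 ⟨⟨x, hx⟩, hxU _⟩
  obtain ⟨D, hiso, hD⟩ := KRegMero.exists_divisor_of_frame (wfin_of_isLocallyNoetherian (X := X)) hL
    (fun x hx => hO x (maximal_of_WA (f := f) hY hx)) he₀f
  exact ⟨D, hiso, fun x hx => hD x (hO x hx)⟩

end Groth.Agent.Div57.Desc
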