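import Groth.Agent.Div57.Desc.Rel

/-!
# Divisors which are defined over the base on a fibre
-/

universe u

set_option autoImplicit false
set_option backward.isDefEq.respectTransparency false
set_option backward.isDefEq.respectTransparency.types false
set_option linter.style.haveILetI false
set_option linter.unusedSectionVars false

open CategoryTheory AlgebraicGeometry TopologicalSpace IsLocalRing Groth.Agent

namespace Groth.Agent.Div57.Desc

variable {X Y : Scheme.{u}} (f : X ⟶ Y) (D : Mero.Divisor X)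

theorem regular_map {A B : Type u} [CommRing A] [CommRing B] [Algebra A B] [Module.Flat A B] {a : A}
    (ha : a ∈ nonZeroDivisors A) : algebraMap A B a ∈ nonZeroDivisors B := by
  refine mem_nonZeroDivisors_iff_right.2 fun b hb => ?_
  have h1 := regular_mod_map (B := B) (I := (⊥ : Ideal A)) (r := a) (b := b) (fun c hc => by
    rw [Ideal.mem_bot] at hc ⊢
    exact mem_nonZeroDivisors_iff_right.1 ha c (by rw [mul_comm]; exact hc)) (by
    rw [mul_comm, hb]; exact zero_mem _)
  rwa [Ideal.map_bot, Ideal.mem_bot] at h1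

/-- From the local ring at a specialization of the image to the local ring. -/
noncomputable def pull {x : X} {y : Y} (h : f x ⤳ y) : Y.presheaf.stalk y →+* X.presheaf.stalk x :=
  (f.stalkMap x).hom.comp (Y.presheaf.stalkSpecializes h).hom

theorem pull_refl (x : X) (a : Y.presheaf.stalk (f x)) : pull f (specializes_rfl (x := f x)) a = f.stalkMap x a := by
  simp [pull, TopCat.Presheaf.stalkSpecializes_refl]

theorem spec_pull {x z : X} {y : Y} (hz : z ⤳ x) (h : f x ⤳ y) (a : Y.presheaf.stalk y) :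
    X.presheaf.stalkSpecializes hz (pull f h a) = pull f ((hz.map f.continuous).trans h) a :=
  (Scheme.Hom.stalkSpecializes_stalkMap_apply f z x hz _).symm.trans
    (congrArg (f.stalkMap z) (TopCat.Presheaf.stalkSpecializes_comp_apply Y.presheaf _ h a))

theorem pull_spec {x : X} {y y' : Y} (hy : y' ⤳ y) (h : f x ⤳ y') (a : Y.presheaf.stalk y) :
    pull f h (Y.presheaf.stalkSpecializes hy a) = pull f (h.trans hy) a :=
  congrArg (f.stalkMap x) (TopCat.Presheaf.stalkSpecializes_comp_apply Y.presheaf h hy a)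

theorem pull_germ {x : X} {y : Y} (h : f x ⤳ y) {V : Y.Opens} (hy : y ∈ V) (a : Γ(Y, V)) :
    pull f h (Y.presheaf.germ V y hy a) = X.presheaf.germ (f ⁻¹ᵁ V) x (h.mem_open V.2 hy) (f.app V a) := by
  simp only [pull, RingHom.comp_apply]
  rw [← Scheme.Hom.germ_stalkMap_apply]
  exact congrArg (f.stalkMap x) (TopCat.Presheaf.germ_stalkSpecializes_apply Y.presheaf hy h a)

theorem spec_regular {y y' : Y} (hy : y' ⤳ y) {a : Y.presheaf.stalk y} (ha : a ∈ nonZeroDivisors _) :
    Y.presheaf.stalkSpecializes hy a ∈ nonZeroDivisors (Y.presheaf.stalk y') := by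
  letI := (Y.presheaf.stalkSpecializes hy).hom.toAlgebra
  haveI := H23.StalkPrimes.isLocalization_primeOf hy
  haveI : Module.Flat (Y.presheaf.stalk y) (Y.presheaf.stalk y') :=
    IsLocalization.flat _ (CDiv6.primeOf hy).asIdeal.primeCompl
  exact regular_map ha

/-- `D` is the class of a fraction from the base on the fibre over `y`. -/
def GoodD (y : Y) : Prop :=
  ∃ a b, a ∈ nonZeroDivisors (Y.presheaf.stalk y) ∧ b ∈ nonZeroDivisors (Y.presheaf.stalk y) ∧
    ∀ (x : X) (hx : f x = y), Rel D x (pull f (specializes_of_eq hx) a) (pull f (specializes_of_eq hx) b)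

variable [Flat f]

theorem pull_regular {x : X} {y : Y} (h : f x ⤳ y) {a : Y.presheaf.stalk y} (ha : a ∈ nonZeroDivisors _) :
    pull f h a ∈ nonZeroDivisors (X.presheaf.stalk x) := by
  letI := (f.stalkMap x).hom.toAlgebra
  haveI : Module.Flat (Y.presheaf.stalk (f x)) (X.presheaf.stalk x) := Flat.stalkMap f x
  exact regular_map (spec_regular h ha)

theorem comap_map_pull {x : X} {y : Y} (hx : f x = y) (I : Ideal (Y.presheaf.stalk y)) :
    (I.map (pull f (specializes_of_eq hx))).comap (pull f (specializes_of_eq hx)) = I := by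
  subst hx
  have e : pull f (specializes_of_eq rfl) = (f.stalkMap x).hom := RingHom.ext fun a => pull_refl f x a
  rw [e]
  letI := (f.stalkMap x).hom.toAlgebra
  haveI : Module.Flat (Y.presheaf.stalk (f x)) (X.presheaf.stalk x) := Flat.stalkMap f x
  haveI : IsLocalHom (algebraMap (Y.presheaf.stalk (f x)) (X.presheaf.stalk x)) :=
    inferInstanceAs (IsLocalHom (f.stalkMap x).hom)
  haveI := Module.FaithfullyFlat.of_flat_of_isLocalHom (A := Y.presheaf.stalk (f x)) (B := X.presheaf.stalk x)
  exact Ideal.comap_map_eq_self_of_faithfullyFlat (B := X.presheaf.stalk x) I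

theorem span_eq_of_pull {x : X} {y : Y} (hx : f x = y) {a a' : Y.presheaf.stalk y}
    (h : Ideal.span {pull f (specializes_of_eq hx) a} = Ideal.span {pull f (specializes_of_eq hx) a'}) :
    Ideal.span {a} = Ideal.span ({a'} : Set (Y.presheaf.stalk y)) := by
  rw [← comap_map_pull f hx (Ideal.span {a}), ← comap_map_pull f hx (Ideal.span {a'}), Ideal.map_span, Ideal.map_span,
    Set.image_singleton, Set.image_singleton, h]

theorem span_pull_congr {x : X} {y : Y} (h : f x ⤳ y) {a a' : Y.presheaf.stalk y}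
    (e : Ideal.span {a} = Ideal.span ({a'} : Set (Y.presheaf.stalk y))) :
    Ideal.span {pull f h a} = Ideal.span {pull f h a'} := by
  have := congrArg (Ideal.map (pull f h)) e
  rwa [Ideal.map_span, Ideal.map_span, Set.image_singleton, Set.image_singleton] at this

variable {f D} [IsLocallyNoetherian X]

/-- A fraction valid at one point of a good fibre is valid on the fibre. -/
theorem GoodD.indep {y : Y} (hg : GoodD f D y) {a b : Y.presheaf.stalk y} (hb : b ∈ nonZeroDivisors _)
    {x₀ : X} (hx₀ : f x₀ = y) (h₀ : Rel D x₀ (pull f (specializes_of_eq hx₀) a) (pull f (specializes_of_eq hx₀) b)) :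
    ∀ (x : X) (hx : f x = y), Rel D x (pull f (specializes_of_eq hx) a) (pull f (specializes_of_eq hx) b) := by
  obtain ⟨a', b', -, hb', hall⟩ := hg
  have h1 := (hall x₀ hx₀).span_eq h₀
  rw [← map_mul, ← map_mul] at h1
  intro x hx
  refine (hall x hx).congr (pull_regular f _ hb') (pull_regular f _ hb) ?_
  rw [← map_mul, ← map_mul]
  exact span_pull_congr f _ (span_eq_of_pull f hx₀ h1)

/-- The same for fractions in a local ring of a specialization. -/
theorem GoodD.gen {y y' : Y} (h : y' ⤳ y) (hg : GoodD f D y') {a b : Y.presheaf.stalk y}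
    (hb : b ∈ nonZeroDivisors _) {z : X} (hz : f z = y')
    (hr : Rel D z (pull f ((specializes_of_eq hz).trans h) a) (pull f ((specializes_of_eq hz).trans h) b)) :
    ∀ (x : X) (hx : f x = y'),
      Rel D x (pull f ((specializes_of_eq hx).trans h) a) (pull f ((specializes_of_eq hx).trans h) b) := by
  intro x hx
  rw [← pull_spec f h (specializes_of_eq hx), ← pull_spec f h (specializes_of_eq hx)]
  rw [← pull_spec f h (specializes_of_eq hz), ← pull_spec f h (specializes_of_eq hz)] at hr
  exact hg.indep (spec_regular h hb) hz hr x hx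

variable [IsLocallyNoetherian Y] (hY : Pi1.IsNormalScheme Y)
  (htriv : ∀ x : X, (∀ y : Y, y ⤳ f x → y = f x) → D.1 x = 1)

include hY in
theorem eq_of_prime_bot {y z : Y} (hz : z ⤳ y) (h : (CDiv6.primeOf hz).asIdeal = ⊥) (w : Y) (hw : w ⤳ z) :
    w = z :=
  H23.StalkPrimes.primeOf_inj (hw.trans hz) hz
    (le_antisymm ((H23.StalkPrimes.primeOf_le_iff hz (hw.trans hz)).2 hw) (h.le.trans bot_le))

include hY in
theorem unit_of_maximal {y z : Y} (hz : z ⤳ y) (hmax : ∀ w, w ⤳ z → w = z) {u : Y.presheaf.stalk y}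
    (hu : u ∈ nonZeroDivisors _) : IsUnit (Y.presheaf.stalkSpecializes hz u) := by
  haveI := (hY y).1
  by_contra hn
  obtain ⟨w, hw, hwb⟩ := H23.StalkPrimes.exists_point (⊥ : Ideal (Y.presheaf.stalk y))
  have hwz : w ⤳ z := (H23.StalkPrimes.primeOf_le_iff hz hw).1 (by rw [hwb]; exact bot_le)
  obtain rfl := hmax w hwz
  have : u ∈ (CDiv6.primeOf hw).asIdeal := (CDiv6.mem_primeOf hw u).2 hn
  rw [hwb, Ideal.mem_bot] at this
  exact nonZeroDivisors.ne_zero hu this

include hY in
/-- Membership on the maximal fibres holds after a multiplier from the base. -/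
theorem exists_mult (x : X) (t b : X.presheaf.stalk x)
    (h : ∀ (z : X) (hz : z ⤳ x), (∀ w, w ⤳ f z → w = f z) →
      X.presheaf.stalkSpecializes hz b ∈ Ideal.span {X.presheaf.stalkSpecializes hz t}) :
    ∃ u ∈ nonZeroDivisors (Y.presheaf.stalk (f x)), f.stalkMap x u * b ∈ Ideal.span {t} := by
  haveI := (hY (f x)).1
  obtain ⟨u, hu, hut⟩ := exists_notMem (f.stalkMap x).hom (⊥ : Ideal (Y.presheaf.stalk (f x))) t b fun q hq hle => by
    obtain ⟨z, hz, rfl⟩ := H23.StalkPrimes.exists_point q
    have h1 : (CDiv6.primeOf (hz.map f.continuous)).asIdeal = ⊥ := by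
      rw [← H23.StalkPrimes.comap_primeOf f hz]
      exact le_bot_iff.1 hle
    letI := (X.presheaf.stalkSpecializes hz).hom.toAlgebra
    haveI := H23.StalkPrimes.isLocalization_primeOf hz
    have h2 : algebraMap (X.presheaf.stalk x) (X.presheaf.stalk z) b ∈
        (Ideal.span {t}).map (algebraMap (X.presheaf.stalk x) (X.presheaf.stalk z)) := by
      rw [Ideal.map_span, Set.image_singleton]
      exact h z hz (eq_of_prime_bot hY _ h1)
    obtain ⟨w, hw, hwb⟩ := (IsLocalization.algebraMap_mem_map_algebraMap_iff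
      (CDiv6.primeOf hz).asIdeal.primeCompl (X.presheaf.stalk z) _ b).1 h2
    exact ⟨w, hw, hwb⟩
  exact ⟨u, mem_nonZeroDivisors_of_ne_zero fun h0 => hu (by rw [h0]; exact zero_mem _), hut⟩

include hY htriv in
/-- A fraction with denominator from the base. -/
theorem exists_num (x : X) :
    ∃ (t : X.presheaf.stalk x) (u : Y.presheaf.stalk (f x)), u ∈ nonZeroDivisors _ ∧
      t ∈ nonZeroDivisors (X.presheaf.stalk x) ∧ Rel D x t (f.stalkMap x u) := by
  obtain ⟨P, Q, hQ, hPQ⟩ := exists_rel D x
  obtain ⟨u, hu, hut⟩ := exists_mult hY x Q P fun z hz hmax => by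
    have h1 := (hPQ.spec hz).span_eq (rel_one_one (htriv z hmax))
    rw [mul_one, one_mul] at h1
    exact h1 ▸ Ideal.mem_span_singleton_self _
  obtain ⟨t, ht⟩ := Ideal.mem_span_singleton.1 hut
  have hu' : f.stalkMap x u ∈ nonZeroDivisors (X.presheaf.stalk x) :=
    pull_refl f x u ▸ pull_regular f specializes_rfl hu
  have hr : Rel D x t (f.stalkMap x u) :=
    hPQ.congr hQ hu' (by rw [mul_comm P, ht, mul_comm t Q])
  exact ⟨t, u, hu, hr.regular hu', hr⟩

include hY htriv in
/-- A fraction from the base at a point over depth two, from the proper generizations. -/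
theorem exists_frac_stalk (x : X)
    (hd : 2 ≤ LocCoh.depth (Y.presheaf.stalk (f x)) (Y.presheaf.stalk (f x)))
    (hgen : ∀ y', y' ⤳ f x → y' ≠ f x → GoodD f D y') :
    ∃ a u, a ∈ nonZeroDivisors (Y.presheaf.stalk (f x)) ∧ u ∈ nonZeroDivisors (Y.presheaf.stalk (f x)) ∧
      Rel D x (f.stalkMap x a) (f.stalkMap x u) := by
  obtain ⟨t, u, hu, ht, htu⟩ := exists_num hY htriv x
  letI := (f.stalkMap x).hom.toAlgebra
  haveI : Module.Flat (Y.presheaf.stalk (f x)) (X.presheaf.stalk x) := Flat.stalkMap f x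
  haveI : IsLocalHom (algebraMap (Y.presheaf.stalk (f x)) (X.presheaf.stalk x)) :=
    inferInstanceAs (IsLocalHom (f.stalkMap x).hom)
  have htu' : ∀ (z : X) (hz : z ⤳ x),
      Rel D z (X.presheaf.stalkSpecializes hz t) (pull f (hz.map f.continuous) u) := fun z hz => by
    have h1 := htu.spec hz
    rwa [← pull_refl f x u, spec_pull f hz specializes_rfl] at h1
  obtain ⟨a, ha⟩ := exists_descended hd ht fun p hp hne => by
    obtain ⟨y', hy', hpy⟩ := H23.StalkPrimes.exists_point p
    subst hpy
    have hne' : y' ≠ f x := fun e => by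
      subst e
      refine hne (le_antisymm (le_maximalIdeal hp.ne_top) fun r hr => (CDiv6.mem_primeOf hy' r).2 ?_)
      rw [TopCat.Presheaf.stalkSpecializes_refl]
      exact hr
    obtain ⟨a', b', -, hb', hall⟩ := hgen y' hy' hne'
    obtain ⟨z₀, hz₀, hz₀y⟩ := exists_lift f (x := x) hy'
    let u' := Y.presheaf.stalkSpecializes hy' u
    have hc : a' * u' ∈ Ideal.span {b'} := by
      rw [← comap_map_pull f hz₀y (Ideal.span {b'}), Ideal.mem_comap, Ideal.map_span, Set.image_singleton, map_mul]
      have h1 := (htu' z₀ hz₀).span_eq (hall z₀ hz₀y)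
      rw [pull_spec f hy' (specializes_of_eq hz₀y)]
      exact (Ideal.span_singleton_le_iff_mem _).1 (h1 ▸ (Ideal.span_singleton_le_iff_mem _).2
        (Ideal.mem_span_singleton.2 (dvd_mul_left _ _)))
    obtain ⟨c', hc'⟩ := Ideal.mem_span_singleton.1 hc
    letI := (Y.presheaf.stalkSpecializes hy').hom.toAlgebra
    haveI := H23.StalkPrimes.isLocalization_primeOf hy'
    obtain ⟨⟨c, d⟩, hcd⟩ := IsLocalization.surj (CDiv6.primeOf hy').asIdeal.primeCompl c'
    have key : ∀ (z : X) (hz : z ⤳ x), f z ⤳ y' →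
        Ideal.span {X.presheaf.stalkSpecializes hz t} = Ideal.span {X.presheaf.stalkSpecializes hz (f.stalkMap x c)} := by
      intro z hz hzy'
      have hg : GoodD f D (f z) := hgen _ (hz.map f.continuous) fun e =>
        hne' ((hy'.antisymm (e ▸ hzy')).eq)
      obtain ⟨z₁, hz₁, hz₁y⟩ := exists_lift f (x := z₀) (hz₀y.symm ▸ hzy')
      have h0 : Rel D z₁ (pull f ((specializes_of_eq hz₁y).trans hzy') a')
          (pull f ((specializes_of_eq hz₁y).trans hzy') b') := by
        have h1 := (hall z₀ hz₀y).spec hz₁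
        rwa [spec_pull, spec_pull] at h1
      have h2 := (htu' z hz).span_eq (hg.gen hzy' hb' hz₁y h0 z rfl)
      have e1 : pull f ((specializes_of_eq rfl).trans hzy' : f z ⤳ y') a' * pull f (hz.map f.continuous) u =
          pull f hzy' b' * pull f hzy' c' := by
        rw [← map_mul, ← hc', map_mul, pull_spec f hy' hzy']
      rw [e1, mul_comm] at h2
      obtain ⟨v, hv⟩ := exists_unit_of_span_eq (mul_mem (pull_regular f hzy' hb') (htu' z hz |>.regular
        (pull_regular f _ hu))) (h2.symm.trans (congrArg (fun r => Ideal.span {r}) rfl))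
      have e2 : pull f hzy' c' = X.presheaf.stalkSpecializes hz t * v :=
        (mul_cancel_left_mem_nonZeroDivisors (pull_regular f hzy' hb')).1 (hv.trans (mul_assoc _ _ _))
      have e3 : X.presheaf.stalkSpecializes hz (f.stalkMap x c) =
          pull f hzy' c' * pull f hzy' (algebraMap (Y.presheaf.stalk (f x)) (Y.presheaf.stalk y') d) := by
        rw [← map_mul, hcd, ← pull_refl f x c, spec_pull f hz specializes_rfl]
        exact (pull_spec f hy' hzy' c).symm
      rw [e3, e2, mul_assoc, Ideal.span_singleton_mul_right_unit (v.isUnit.mul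
        ((IsLocalization.map_units (Y.presheaf.stalk y') d).map _))]
    have hloc : ∀ b b' : X.presheaf.stalk x, (∀ (z : X) (hz : z ⤳ x), f z ⤳ y' →
        X.presheaf.stalkSpecializes hz b ∈ Ideal.span {X.presheaf.stalkSpecializes hz b'}) →
        ∃ u ∉ (CDiv6.primeOf hy').asIdeal, algebraMap (Y.presheaf.stalk (f x)) (X.presheaf.stalk x) u * b ∈
          Ideal.span {b'} := fun b b' hbb => exists_notMem _ _ b' b fun q hq hqp => by
      obtain ⟨z, hz, hzq⟩ := H23.StalkPrimes.exists_point q
      subst hzq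
      have hzy' : f z ⤳ y' := by
        rw [← H23.StalkPrimes.primeOf_le_iff hy' (hz.map f.continuous), ← H23.StalkPrimes.comap_primeOf f hz]
        exact hqp
      letI := (X.presheaf.stalkSpecializes hz).hom.toAlgebra
      haveI := H23.StalkPrimes.isLocalization_primeOf hz
      obtain ⟨w, hw, hwb⟩ := (IsLocalization.algebraMap_mem_map_algebraMap_iff
        (CDiv6.primeOf hz).asIdeal.primeCompl (X.presheaf.stalk z) _ b).1 (by
          rw [Ideal.map_span, Set.image_singleton]; exact hbb z hz hzy')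
      exact ⟨w, hw, hwb⟩
    refine ⟨c, hloc t _ fun z hz hzy' => key z hz hzy' ▸ Ideal.mem_span_singleton_self _, ?_⟩
    obtain ⟨v, hv, hvc⟩ := hloc (f.stalkMap x c) t fun z hz hzy' =>
      (key z hz hzy').symm ▸ Ideal.mem_span_singleton_self _
    exact ⟨v, hv, by rw [map_mul]; exact hvc⟩
  have hu' : f.stalkMap x u ∈ nonZeroDivisors (X.presheaf.stalk x) := regular_map hu
  refine ⟨a, u, ?_, hu, htu.congr hu' hu' (?_ : Ideal.span {t * f.stalkMap x u} = Ideal.span {algebraMap _ _ a * _})⟩
  · haveI := Module.FaithfullyFlat.of_flat_of_isLocalHom (A := Y.presheaf.stalk (f x)) (B := X.presheaf.stalk x)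
    refine mem_nonZeroDivisors_iff_right.2 fun r hr => ?_
    have h5 := mem_nonZeroDivisors_iff_right.1 (regular_of_span_eq ha ht) (algebraMap _ _ r)
      (by rw [← map_mul, hr, map_zero])
    exact FaithfulSMul.algebraMap_injective (Y.presheaf.stalk (f x)) (X.presheaf.stalk x) (h5.trans (map_zero _).symm)
  · rw [← Ideal.span_singleton_mul_span_singleton, ← Ideal.span_singleton_mul_span_singleton, ha]

variable [Surjective f]

include hY htriv in
/-- The depth two step. -/
theorem goodD_of_gen (y : Y) (hd : 2 ≤ LocCoh.depth (Y.presheaf.stalk y) (Y.presheaf.stalk y))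
    (hgen : ∀ y', y' ⤳ y → y' ≠ y → GoodD f D y') : GoodD f D y := by
  have hex : ∀ (x : X) (y : Y) (hx : f x = y), 2 ≤ LocCoh.depth (Y.presheaf.stalk y) (Y.presheaf.stalk y) →
      (∀ y', y' ⤳ y → y' ≠ y → GoodD f D y') → ∃ a u, a ∈ nonZeroDivisors (Y.presheaf.stalk y) ∧
        u ∈ nonZeroDivisors (Y.presheaf.stalk y) ∧
        Rel D x (pull f (specializes_of_eq hx) a) (pull f (specializes_of_eq hx) u) := by
    rintro x _ rfl hd hgen
    obtain ⟨a, u, ha, hu, h⟩ := exists_frac_stalk hY htriv x hd hgen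
    exact ⟨a, u, ha, hu, by rw [pull_refl, pull_refl]; exact h⟩
  obtain ⟨x₀, hx₀⟩ := f.surjective y
  obtain ⟨a, u, ha, hu, h₀⟩ := hex x₀ y hx₀ hd hgen
  refine ⟨a, u, ha, hu, fun x hx => ?_⟩
  obtain ⟨a', u', ha', hu', h⟩ := hex x y hx hd hgen
  have hkey : Ideal.span {a' * u} = Ideal.span {a * u'} := by
    refine span_eq_of_punctured hd (mul_mem ha' hu) (mul_mem ha hu') fun y' hy' hne => ?_
    obtain ⟨z, hz, hzy⟩ := exists_lift f (x := x) (hx.symm ▸ hy')
    obtain ⟨z₀, hz₀, hz₀y⟩ := exists_lift f (x := x₀) (hx₀.symm ▸ hy')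
    have hz' := h.spec hz
    rw [spec_pull, spec_pull] at hz'
    have hz₀' := h₀.spec hz₀
    rw [spec_pull, spec_pull] at hz₀'
    refine span_eq_of_pull f hzy ?_
    rw [pull_spec, pull_spec, map_mul, map_mul]
    exact hz'.span_eq ((hgen y' hy' hne).gen hy' hu hz₀y hz₀' z hzy)
  refine h.congr (pull_regular f _ hu') (pull_regular f _ hu) ?_
  rw [← map_mul, ← map_mul]
  exact span_pull_congr f _ hkey

include hY htriv in
theorem goodD_of_maximal (y : Y) (hmax : ∀ z : Y, z ⤳ y → z = y) : GoodD f D y :=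
  ⟨1, 1, one_mem _, one_mem _, fun x hx => by
    rw [map_one]; exact rel_one_one (htriv x (by rw [hx]; exact hmax))⟩

include hY htriv in
/-- Over a valuation ring with integral fibre. -/
theorem goodD_of_dvr {y : Y} {V : Y.Opens} (hy : y ∈ V) (p : Γ(Y, V))
    (hp0 : Y.presheaf.germ V y hy p ∈ nonZeroDivisors (Y.presheaf.stalk y))
    (hp : maximalIdeal (Y.presheaf.stalk y) = Ideal.span {Y.presheaf.germ V y hy p})
    (hgen : ∀ z : Y, z ⤳ y → z ≠ y → ∀ w : Y, w ⤳ z → w = z)
    (hint : IsIntegral (f.fiber y)) : GoodD f D y := by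
  haveI := (hY y).1
  let π := Y.presheaf.germ V y hy p
  have hπprime : (Ideal.span {π}).IsPrime := hp ▸ inferInstance
  have hpow : ∀ v ∈ nonZeroDivisors (Y.presheaf.stalk y), ∃ m, Ideal.span {v} = Ideal.span {π ^ m} := by
    intro v hv
    obtain ⟨N, hN⟩ := exists_pow_le (Ideal.span {v}) fun q hq hne hle => by
      obtain ⟨z, hz, hqz⟩ := H23.StalkPrimes.exists_point q
      have hzne : z ≠ y := fun e => by
        subst e
        refine hne (le_antisymm (le_maximalIdeal hq.ne_top) fun r hr => hqz ▸ (CDiv6.mem_primeOf hz r).2 ?_)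
        rw [TopCat.Presheaf.stalkSpecializes_refl]
        exact hr
      have hu := unit_of_maximal hY hz (hgen z hz hzne) hv
      exact (CDiv6.mem_primeOf hz v).1 (hqz.symm ▸ hle (Ideal.mem_span_singleton_self v)) hu
    exact exists_pow_of_prime hp0 hπprime N (hN (hp ▸ Ideal.pow_mem_pow (Ideal.mem_span_singleton_self π) N))
  let P := fun (x : X) (hx : f x = y) => pull f (specializes_of_eq hx) π
  have hPreg : ∀ x hx, P x hx ∈ nonZeroDivisors (X.presheaf.stalk x) := fun x hx => pull_regular f _ hp0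
  have hPprime : ∀ x hx, (Ideal.span {P x hx}).IsPrime := fun x hx => by
    show (Ideal.span {pull f (specializes_of_eq hx) (Y.presheaf.germ V y hy p)}).IsPrime
    rw [pull_germ]
    exact isPrime_germ f hy p hp hint x hx
  have hk : ∀ (x : X) (hx : f x = y), ∃ k m, Rel D x (P x hx ^ k) (P x hx ^ m) := by
    intro x hx
    subst hx
    obtain ⟨t, u, hu, ht, htu⟩ := exists_num hY htriv x
    obtain ⟨m, hm⟩ := hpow u hu
    obtain ⟨v, hv, hvt⟩ := exists_mult hY x t 1 fun z hz hmax => by
      have h1 := (htu.spec hz).span_eq (rel_one_one (htriv z hmax))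
      rw [mul_one, one_mul, ← pull_refl f x u, spec_pull] at h1
      have h2 : IsUnit (pull f ((hz.map f.continuous).trans specializes_rfl) u) :=
        (unit_of_maximal hY ((hz.map f.continuous).trans specializes_rfl) hmax hu).map (f.stalkMap z).hom
      rw [Ideal.span_singleton_eq_top.2 h2] at h1
      rw [h1]; exact Submodule.mem_top
    rw [mul_one] at hvt
    obtain ⟨N, hN⟩ := hpow v hv
    have hP : P x rfl = f.stalkMap x π := pull_refl f x π
    have hsp : ∀ {a b : Y.presheaf.stalk (f x)}, Ideal.span {a} = Ideal.span {b} →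
        Ideal.span {f.stalkMap x a} = Ideal.span {f.stalkMap x b} := fun {a b} e => by
      rw [← pull_refl f x a, ← pull_refl f x b]
      exact span_pull_congr f _ e
    obtain ⟨k, hk⟩ := exists_pow_of_prime (hPreg x rfl) (hPprime x rfl) N (t := t) (by
      refine (Ideal.span_singleton_le_iff_mem _).1 ?_
      rw [hP, ← map_pow, ← hsp hN]
      exact (Ideal.span_singleton_le_iff_mem _).2 hvt)
    refine ⟨k, m, htu.congr (pull_refl f x u ▸ pull_regular f specializes_rfl hu) (pow_mem (hPreg x rfl) m) ?_⟩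
    rw [← Ideal.span_singleton_mul_span_singleton, ← Ideal.span_singleton_mul_span_singleton, hk, hsp hm]
    simp only [hP, map_pow]
  let z := f.fiberι y (genericPoint (f.fiber y))
  have hzy : f z = y := FlatDvr.fiberι_apply_eq f _
  have hspec : ∀ x, f x = y → z ⤳ x := fun x hx => by
    obtain ⟨w, rfl⟩ := exists_fibre_point f x hx
    exact (genericPoint_specializes w).map (f.fiberι y).continuous
  obtain ⟨k₀, m₀, h₀⟩ := hk z hzy
  have key : ∀ a b : ℕ, a ≤ b → Ideal.span {P z hzy ^ a} = Ideal.span {P z hzy ^ b} → a = b := by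
    intro a b hab he
    by_contra hne
    obtain ⟨c, hc⟩ := Ideal.mem_span_singleton.1 (he ▸ Ideal.mem_span_singleton_self (P z hzy ^ a))
    have h1 : P z hzy ^ (b - a) * c = 1 := by
      refine (mul_cancel_left_mem_nonZeroDivisors (pow_mem (hPreg z hzy) a)).1 ?_
      rw [mul_one, ← mul_assoc, ← pow_add, Nat.add_sub_cancel' hab]
      exact hc.symm
    have h2 : IsUnit (P z hzy) := (isUnit_pow_iff (Nat.sub_ne_zero_of_lt (lt_of_le_of_ne hab hne))).1 (IsUnit.of_mul_eq_one c h1)
    exact (hPprime z hzy).ne_top (Ideal.span_singleton_eq_top.2 h2)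
  refine ⟨π ^ k₀, π ^ m₀, pow_mem hp0 _, pow_mem hp0 _, fun x hx => ?_⟩
  obtain ⟨k, m, h⟩ := hk x hx
  have h1 := h.spec (hspec x hx)
  have hP : X.presheaf.stalkSpecializes (hspec x hx) (P x hx) = P z hzy := spec_pull f _ _ π
  rw [map_pow, map_pow, hP] at h1
  have h2 := h1.span_eq h₀
  rw [← pow_add, ← pow_add] at h2
  have hkk : k + m₀ = k₀ + m := by
    rcases le_total (k + m₀) (k₀ + m) with hle | hle
    · exact key _ _ hle h2
    · exact (key _ _ hle h2.symm).symm
  refine h.congr (pow_mem (hPreg x hx) m) (by rw [map_pow]; exact pow_mem (hPreg x hx) m₀) ?_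
  rw [map_pow, map_pow, ← pow_add, ← pow_add, hkk]

include hY htriv in
/-- Every fibre is good. -/
theorem goodD_all (hfib : ∀ y : Y, ringKrullDim (Y.presheaf.stalk y) = 1 → IsIntegral (f.fiber y)) (y : Y) :
    GoodD f D y := by
  suffices H : ∀ (n : ℕ∞) (y' : Y) (hy' : y' ⤳ y), (CDiv6.primeOf hy').asIdeal.height = n → GoodD f D y' from
    H _ y specializes_rfl rfl
  intro n
  induction n using WellFoundedLT.induction with
  | ind n ih =>
    intro y' hy' hn
    by_cases hd : LocCoh.depth (Y.presheaf.stalk y') (Y.presheaf.stalk y') ≤ 1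
    · rcases field_or_dvr hY hd with hmax | ⟨hdim, hgen, V, hyV, p, hp0, hp⟩
      · exact goodD_of_maximal hY htriv y' hmax
      · exact goodD_of_dvr hY htriv hyV p hp0 hp hgen (hfib y' hdim)
    refine goodD_of_gen hY htriv y' (Order.add_one_le_of_lt (not_le.1 hd)) fun y'' hy'' hne => ?_
    refine ih _ ?_ y'' (hy''.trans hy') rfl
    have hlt : (CDiv6.primeOf (hy''.trans hy')).asIdeal < (CDiv6.primeOf hy').asIdeal :=
      lt_of_le_of_ne ((H23.StalkPrimes.primeOf_le_iff hy' (hy''.trans hy')).2 hy'') fun e =>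
        hne (H23.StalkPrimes.primeOf_inj (hy''.trans hy') hy' e)
    exact hn ▸ Ideal.height_strict_mono_of_isPrime_of_isPrime hlt

end Groth.Agent.Div57.Desc
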